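import Cfsg.Agent.Lib.H94.TCRuA.Data
import Cfsg.Agent.Lib.H35.TC
set_option autoImplicit false
set_option maxRecDepth 100000
set_option linter.all false
namespace H94.TCRuA
open H35.TC
/-- letters -/
inductive Lt | b | bi | g | gi | f | fi | n | ni | z | zi
  deriving DecidableEq
/-- inverse letter -/
def inv : Lt → Lt
  | .b => .bi
  | .bi => .b
  | .g => .gi
  | .gi => .g
  | .f => .fi
  | .fi => .f
  | .n => .ni
  | .ni => .n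
  | .z => .zi
  | .zi => .z
/-- table functions -/
noncomputable def T : Lt → ℕ → ℕ
  | .b => T_b
  | .bi => T_bi
  | .g => T_g
  | .gi => T_gi
  | .f => T_f
  | .fi => T_fi
  | .n => T_n
  | .ni => T_ni
  | .z => T_z
  | .zi => T_zi
/-- decoding of letter codes -/
def lt : ℕ → Lt
  | 0 => .b
  | 1 => .bi
  | 2 => .g
  | 3 => .gi
  | 4 => .f
  | 5 => .fi
  | 6 => .n
  | 7 => .ni
  | 8 => .z
  | _ => .zi
/-- Coxeter matrix (0: no relation) -/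
def mm : Lt → Lt → ℕ
  | _, _ => 0
/-- extra relators `w ^ n` -/
def extra : List (List Lt × ℕ) := [
  ([.f], 3),
  ([.n, .n, .zi], 1),
  ([.n, .b, .ni, .bi], 1),
  ([.n, .f, .ni, .f], 1),
  ([.z, .g, .zi, .gi], 1),
  ([.z], 4),
  ([.b, .b, .b, .gi, .bi, .g], 1),
  ([.n, .g], 3),
  ([.b, .b, .f, .b, .f, .g, .f, .gi, .fi, .bi, .fi, .gi], 1),
  ([.b, .b, .f, .b, .b, .f, .bi, .fi, .bi, .fi, .bi, .f], 1),
  ([.b, .g, .fi, .bi, .f, .b, .fi, .g, .f, .g, .bi, .f], 1),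
  ([.b, .bi], 1),
  ([.bi, .b], 1),
  ([.g, .gi], 1),
  ([.gi, .g], 1),
  ([.f, .fi], 1),
  ([.fi, .f], 1),
  ([.n, .ni], 1),
  ([.ni, .n], 1),
  ([.z, .zi], 1),
  ([.zi, .z], 1)]
/-- relators -/
def rels : List (List Lt) := mkRels [] mm extra
/-- subgroup words -/
def subs : List (List Lt) := [
  [.b],
  [.g],
  [.f]]
noncomputable def dp_b_0 (j u : ℕ) : Bool :=
  Bool.rec (motive := fun _ => Bool) (lF [T_b, T_b, T_gi, T_bi, T_g] M (Nat.sub (T_b u) (Nat.mod (T_b u) M)) (Nat.mod (T_b u) M) u) (lF [T_gi, T_bi, T_g, T_b, T_b] M (Nat.sub (T_b u) (Nat.mod (T_b u) M)) (Nat.mod (T_b u) M) u) (Nat.ble (nat_lit 8) j)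
noncomputable def dp_b_1 (j u : ℕ) : Bool :=
  Bool.rec (motive := fun _ => Bool) (lS MG [T_bi] M (Nat.sub (T_b u) (Nat.mod (T_b u) M)) (nat_lit 40) (Nat.mod (T_b u) M) u) (dp_b_0 j u) (Nat.ble (nat_lit 7) j)
noncomputable def dp_b_2 (j u : ℕ) : Bool :=
  Bool.rec (motive := fun _ => Bool) (lS MG [T_n, T_bi, T_ni] M (Nat.sub (T_b u) (Nat.mod (T_b u) M)) (nat_lit 40) (Nat.mod (T_b u) M) u) (lS MG [T_gi, T_bi, T_g, T_b, T_b] M (Nat.sub (T_b u) (Nat.mod (T_b u) M)) (nat_lit 40) (Nat.mod (T_b u) M) u) (Nat.ble (nat_lit 13) j)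
noncomputable def dp_b_3 (j u : ℕ) : Bool :=
  Bool.rec (motive := fun _ => Bool) (lS MG [T_ni, T_bi, T_n] M (Nat.sub (T_b u) (Nat.mod (T_b u) M)) (nat_lit 40) (Nat.mod (T_b u) M) u) (dp_b_2 j u) (Nat.ble (nat_lit 12) j)
noncomputable def dp_b_4 (j u : ℕ) : Bool :=
  Bool.rec (motive := fun _ => Bool) (lS MG [T_g, T_bi, T_bi, T_bi, T_gi] M (Nat.sub (T_b u) (Nat.mod (T_b u) M)) (nat_lit 40) (Nat.mod (T_b u) M) u) (dp_b_3 j u) (Nat.ble (nat_lit 11) j)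
noncomputable def dp_b_5 (j u : ℕ) : Bool :=
  Bool.rec (motive := fun _ => Bool) (lF [T_b, T_gi, T_bi, T_g, T_b] M (Nat.sub (T_b u) (Nat.mod (T_b u) M)) (Nat.mod (T_b u) M) u) (dp_b_4 j u) (Nat.ble (nat_lit 10) j)
noncomputable def dp_b_6 (j u : ℕ) : Bool :=
  Bool.rec (motive := fun _ => Bool) (lF [T_f, T_g, T_fi, T_gi, T_fi, T_bi, T_fi, T_bi, T_bi, T_g, T_f] M (Nat.sub (T_b u) (Nat.mod (T_b u) M)) (Nat.mod (T_b u) M) u) (lS MG [T_f, T_g, T_fi, T_gi, T_fi, T_bi, T_fi, T_bi, T_bi, T_g, T_f] M (Nat.sub (T_b u) (Nat.mod (T_b u) M)) (nat_lit 40) (Nat.mod (T_b u) M) u) (Nat.ble (nat_lit 15) j)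
noncomputable def dp_b_7 (j u : ℕ) : Bool :=
  Bool.rec (motive := fun _ => Bool) (lF [T_f, T_g, T_f, T_gi, T_fi, T_bi, T_fi, T_gi, T_b, T_b, T_f] M (Nat.sub (T_b u) (Nat.mod (T_b u) M)) (Nat.mod (T_b u) M) u) (lS MG [T_b, T_b, T_gi, T_bi, T_g] M (Nat.sub (T_b u) (Nat.mod (T_b u) M)) (nat_lit 40) (Nat.mod (T_b u) M) u) (Nat.ble (nat_lit 17) j)
noncomputable def dp_b_8 (j u : ℕ) : Bool :=
  Bool.rec (motive := fun _ => Bool) (dp_b_6 j u) (dp_b_7 j u) (Nat.ble (nat_lit 16) j)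
noncomputable def dp_b_9 (j u : ℕ) : Bool :=
  Bool.rec (motive := fun _ => Bool) (lS MG [T_f, T_g, T_f, T_gi, T_fi, T_bi, T_fi, T_gi, T_b, T_b, T_f] M (Nat.sub (T_b u) (Nat.mod (T_b u) M)) (nat_lit 40) (Nat.mod (T_b u) M) u) (lS MG [T_gi, T_fi, T_gi, T_f, T_bi, T_fi, T_b, T_f, T_gi, T_bi, T_fi] M (Nat.sub (T_b u) (Nat.mod (T_b u) M)) (nat_lit 40) (Nat.mod (T_b u) M) u) (Nat.ble (nat_lit 19) j)
noncomputable def dp_b_10 (j u : ℕ) : Bool :=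
  Bool.rec (motive := fun _ => Bool) (lS MG [T_f, T_gi, T_bi, T_fi, T_b, T_gi, T_fi, T_gi, T_f, T_bi, T_fi] M (Nat.sub (T_b u) (Nat.mod (T_b u) M)) (nat_lit 40) (Nat.mod (T_b u) M) u) (lS MG [T_fi, T_g, T_f, T_g, T_bi, T_f, T_b, T_g, T_fi, T_bi, T_f] M (Nat.sub (T_b u) (Nat.mod (T_b u) M)) (nat_lit 40) (Nat.mod (T_b u) M) u) (Nat.ble (nat_lit 22) j)
noncomputable def dp_b_11 (j u : ℕ) : Bool :=
  Bool.rec (motive := fun _ => Bool) (lF [T_f, T_gi, T_bi, T_fi, T_b, T_gi, T_fi, T_gi, T_f, T_bi, T_fi] M (Nat.sub (T_b u) (Nat.mod (T_b u) M)) (Nat.mod (T_b u) M) u) (dp_b_10 j u) (Nat.ble (nat_lit 21) j)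
noncomputable def dp_b_12 (j u : ℕ) : Bool :=
  Bool.rec (motive := fun _ => Bool) (dp_b_9 j u) (dp_b_11 j u) (Nat.ble (nat_lit 20) j)
noncomputable def dp_b_13 (j u : ℕ) : Bool :=
  Bool.rec (motive := fun _ => Bool) (dp_b_8 j u) (dp_b_12 j u) (Nat.ble (nat_lit 18) j)
noncomputable def dp_b_14 (j u : ℕ) : Bool :=
  Bool.rec (motive := fun _ => Bool) (lS MG [T_f, T_bi, T_fi, T_bi, T_fi, T_bi, T_f, T_b, T_b, T_f, T_b] M (Nat.sub (T_b u) (Nat.mod (T_b u) M)) (nat_lit 40) (Nat.mod (T_b u) M) u) (lF [T_fi, T_bi, T_bi, T_fi, T_bi, T_bi, T_fi, T_b, T_f, T_b, T_f] M (Nat.sub (T_b u) (Nat.mod (T_b u) M)) (Nat.mod (T_b u) M) u) (Nat.ble (nat_lit 24) j)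
noncomputable def dp_b_15 (j u : ℕ) : Bool :=
  Bool.rec (motive := fun _ => Bool) (lS MG [T_g, T_fi, T_bi, T_f, T_b, T_fi, T_g, T_f, T_g, T_bi, T_f] M (Nat.sub (T_b u) (Nat.mod (T_b u) M)) (nat_lit 40) (Nat.mod (T_b u) M) u) (lS MG [T_fi, T_bi, T_bi, T_fi, T_bi, T_bi, T_fi, T_b, T_f, T_b, T_f] M (Nat.sub (T_b u) (Nat.mod (T_b u) M)) (nat_lit 40) (Nat.mod (T_b u) M) u) (Nat.ble (nat_lit 26) j)
noncomputable def dp_b_16 (j u : ℕ) : Bool :=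
  Bool.rec (motive := fun _ => Bool) (dp_b_14 j u) (dp_b_15 j u) (Nat.ble (nat_lit 25) j)
noncomputable def dp_b_17 (j u : ℕ) : Bool :=
  Bool.rec (motive := fun _ => Bool) (lS MG [T_b, T_f, T_bi, T_fi, T_bi, T_fi, T_bi, T_f, T_b, T_b, T_f] M (Nat.sub (T_b u) (Nat.mod (T_b u) M)) (nat_lit 40) (Nat.mod (T_b u) M) u) (lS MG [T_b, T_gi, T_bi, T_g, T_b] M (Nat.sub (T_b u) (Nat.mod (T_b u) M)) (nat_lit 40) (Nat.mod (T_b u) M) u) (Nat.ble (nat_lit 28) j)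
noncomputable def dp_b_18 (j u : ℕ) : Bool :=
  Bool.rec (motive := fun _ => Bool) (lF [T_fi, T_g, T_f, T_g, T_bi, T_f, T_b, T_g, T_fi, T_bi, T_f] M (Nat.sub (T_b u) (Nat.mod (T_b u) M)) (Nat.mod (T_b u) M) u) (lS MG [T_f, T_b, T_b, T_f, T_bi, T_fi, T_bi, T_fi, T_bi, T_f, T_b] M (Nat.sub (T_b u) (Nat.mod (T_b u) M)) (nat_lit 40) (Nat.mod (T_b u) M) u) (Nat.ble (nat_lit 30) j)
noncomputable def dp_b_19 (j u : ℕ) : Bool :=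
  Bool.rec (motive := fun _ => Bool) (dp_b_17 j u) (dp_b_18 j u) (Nat.ble (nat_lit 29) j)
noncomputable def dp_b_20 (j u : ℕ) : Bool :=
  Bool.rec (motive := fun _ => Bool) (dp_b_16 j u) (dp_b_19 j u) (Nat.ble (nat_lit 27) j)
noncomputable def dp_b_21 (j u : ℕ) : Bool :=
  Bool.rec (motive := fun _ => Bool) (lF [T_gi, T_fi, T_gi, T_f, T_bi, T_fi, T_b, T_f, T_gi, T_bi, T_fi] M (Nat.sub (T_b u) (Nat.mod (T_b u) M)) (Nat.mod (T_b u) M) u) (lF [T_f, T_b, T_f, T_b, T_fi, T_bi, T_bi, T_fi, T_bi, T_bi, T_fi] M (Nat.sub (T_b u) (Nat.mod (T_b u) M)) (Nat.mod (T_b u) M) u) (Nat.ble (nat_lit 33) j)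
noncomputable def dp_b_22 (j u : ℕ) : Bool :=
  Bool.rec (motive := fun _ => Bool) (lF [T_g, T_fi, T_bi, T_f, T_b, T_fi, T_g, T_f, T_g, T_bi, T_f] M (Nat.sub (T_b u) (Nat.mod (T_b u) M)) (Nat.mod (T_b u) M) u) (dp_b_21 j u) (Nat.ble (nat_lit 32) j)
noncomputable def dp_b_23 (j u : ℕ) : Bool :=
  Bool.rec (motive := fun _ => Bool) (lF [T_f, T_bi, T_fi, T_bi, T_fi, T_bi, T_f, T_b, T_b, T_f, T_b] M (Nat.sub (T_b u) (Nat.mod (T_b u) M)) (Nat.mod (T_b u) M) u) (lS MG [T_b, T_f, T_b, T_b, T_f, T_bi, T_fi, T_bi, T_fi, T_bi, T_f] M (Nat.sub (T_b u) (Nat.mod (T_b u) M)) (nat_lit 40) (Nat.mod (T_b u) M) u) (Nat.ble (nat_lit 36) j)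
noncomputable def dp_b_24 (j u : ℕ) : Bool :=
  Bool.rec (motive := fun _ => Bool) (lF [T_b, T_f, T_bi, T_fi, T_bi, T_fi, T_bi, T_f, T_b, T_b, T_f] M (Nat.sub (T_b u) (Nat.mod (T_b u) M)) (Nat.mod (T_b u) M) u) (dp_b_23 j u) (Nat.ble (nat_lit 35) j)
noncomputable def dp_b_25 (j u : ℕ) : Bool :=
  Bool.rec (motive := fun _ => Bool) (dp_b_22 j u) (dp_b_24 j u) (Nat.ble (nat_lit 34) j)
noncomputable def dp_b_26 (j u : ℕ) : Bool :=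
  Bool.rec (motive := fun _ => Bool) (lF [T_f, T_b, T_fi, T_bi, T_bi, T_fi, T_bi, T_bi, T_fi, T_b, T_f] M (Nat.sub (T_b u) (Nat.mod (T_b u) M)) (Nat.mod (T_b u) M) u) (lS MG [T_f, T_b, T_fi, T_bi, T_bi, T_fi, T_bi, T_bi, T_fi, T_b, T_f] M (Nat.sub (T_b u) (Nat.mod (T_b u) M)) (nat_lit 40) (Nat.mod (T_b u) M) u) (Nat.ble (nat_lit 38) j)
noncomputable def dp_b_27 (j u : ℕ) : Bool :=
  Bool.rec (motive := fun _ => Bool) (lS MG [T_f, T_b, T_f, T_b, T_fi, T_bi, T_bi, T_fi, T_bi, T_bi, T_fi] M (Nat.sub (T_b u) (Nat.mod (T_b u) M)) (nat_lit 40) (Nat.mod (T_b u) M) u) (lF [T_b, T_f, T_b, T_b, T_f, T_bi, T_fi, T_bi, T_fi, T_bi, T_f] M (Nat.sub (T_b u) (Nat.mod (T_b u) M)) (Nat.mod (T_b u) M) u) (Nat.ble (nat_lit 40) j)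
noncomputable def dp_b_28 (j u : ℕ) : Bool :=
  Bool.rec (motive := fun _ => Bool) (dp_b_26 j u) (dp_b_27 j u) (Nat.ble (nat_lit 39) j)
noncomputable def dp_b_29 (j u : ℕ) : Bool :=
  Bool.rec (motive := fun _ => Bool) (lF [T_f, T_b, T_b, T_f, T_bi, T_fi, T_bi, T_fi, T_bi, T_f, T_b] M (Nat.sub (T_b u) (Nat.mod (T_b u) M)) (Nat.mod (T_b u) M) u) (lS MG [T_b, T_f, T_b, T_f, T_g, T_f, T_gi, T_fi, T_bi, T_fi, T_gi] M (Nat.sub (T_b u) (Nat.mod (T_b u) M)) (nat_lit 40) (Nat.mod (T_b u) M) u) (Nat.ble (nat_lit 42) j)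
noncomputable def dp_b_30 (j u : ℕ) : Bool :=
  Bool.rec (motive := fun _ => Bool) (lS MG [T_f, T_b, T_f, T_g, T_f, T_gi, T_fi, T_bi, T_fi, T_gi, T_b] M (Nat.sub (T_b u) (Nat.mod (T_b u) M)) (nat_lit 40) (Nat.mod (T_b u) M) u) (lH [] [] M (Nat.sub (T_b u) (Nat.mod (T_b u) M)) (Nat.mod (T_b u) M) u) (Nat.ble (nat_lit 46) j)
noncomputable def dp_b_31 (j u : ℕ) : Bool :=
  Bool.rec (motive := fun _ => Bool) (lF [T_b, T_f, T_b, T_f, T_g, T_f, T_gi, T_fi, T_bi, T_fi, T_gi] M (Nat.sub (T_b u) (Nat.mod (T_b u) M)) (Nat.mod (T_b u) M) u) (dp_b_30 j u) (Nat.ble (nat_lit 45) j)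
noncomputable def dp_b_32 (j u : ℕ) : Bool :=
  Bool.rec (motive := fun _ => Bool) (lF [T_f, T_b, T_f, T_g, T_f, T_gi, T_fi, T_bi, T_fi, T_gi, T_b] M (Nat.sub (T_b u) (Nat.mod (T_b u) M)) (Nat.mod (T_b u) M) u) (dp_b_31 j u) (Nat.ble (nat_lit 44) j)
noncomputable def dp_b_33 (j u : ℕ) : Bool :=
  Bool.rec (motive := fun _ => Bool) (dp_b_29 j u) (dp_b_32 j u) (Nat.ble (nat_lit 43) j)
noncomputable def dp_b_34 (j u : ℕ) : Bool :=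
  Bool.rec (motive := fun _ => Bool) (dp_b_28 j u) (dp_b_33 j u) (Nat.ble (nat_lit 41) j)
noncomputable def dp_b_35 (j u : ℕ) : Bool :=
  Bool.rec (motive := fun _ => Bool) (dp_b_25 j u) (dp_b_34 j u) (Nat.ble (nat_lit 37) j)
noncomputable def dp_b_36 (j u : ℕ) : Bool :=
  Bool.rec (motive := fun _ => Bool) (dp_b_20 j u) (dp_b_35 j u) (Nat.ble (nat_lit 31) j)
noncomputable def dp_b_37 (j u : ℕ) : Bool :=
  Bool.rec (motive := fun _ => Bool) (dp_b_13 j u) (dp_b_36 j u) (Nat.ble (nat_lit 23) j)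
noncomputable def dp_b_38 (j u : ℕ) : Bool :=
  Bool.rec (motive := fun _ => Bool) (dp_b_5 j u) (dp_b_37 j u) (Nat.ble (nat_lit 14) j)
noncomputable def dp_b_39 (j u : ℕ) : Bool :=
  Bool.rec (motive := fun _ => Bool) (dp_b_1 j u) (dp_b_38 j u) (Nat.ble (nat_lit 9) j)
noncomputable def dp_b_40 (j u : ℕ) : Bool :=
  Bool.rec (motive := fun _ => Bool) (Bool.rec (motive := fun _ => Bool) (lF3 T_ni T_bi T_n M (Nat.sub (T_b u) (Nat.mod (T_b u) M)) (Nat.mod (T_b u) M) u) (lF [T_g, T_bi, T_bi, T_bi, T_gi] M (Nat.sub (T_b u) (Nat.mod (T_b u) M)) (Nat.mod (T_b u) M) u) (Nat.ble (nat_lit 5) j)) (dp_b_39 j u) (Nat.ble (nat_lit 6) j)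
noncomputable def disp_b (j u : ℕ) : Bool :=
  Bool.rec (motive := fun _ => Bool) (Bool.rec (motive := fun _ => Bool) (lF1 T_bi M (Nat.sub (T_b u) (Nat.mod (T_b u) M)) (Nat.mod (T_b u) M) u) (lDef P (nat_lit 1) u (Nat.mod (T_b u) M)) (Nat.ble (nat_lit 1) j)) (Bool.rec (motive := fun _ => Bool) (Bool.rec (motive := fun _ => Bool) (lDef P (nat_lit 0) (Nat.mod (T_b u) M) u) (lF3 T_n T_bi T_ni M (Nat.sub (T_b u) (Nat.mod (T_b u) M)) (Nat.mod (T_b u) M) u) (Nat.ble (nat_lit 3) j)) (dp_b_40 j u) (Nat.ble (nat_lit 4) j)) (Nat.ble (nat_lit 2) j)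
noncomputable def chk_b (j u : ℕ) : Bool :=
  Bool.rec (motive := fun _ => Bool) (disp_b j u) (Nat.ble (Nat.succ (MG u)) A) (Nat.ble A (T_b u))
noncomputable def dp_bi_0 (j u : ℕ) : Bool :=
  Bool.rec (motive := fun _ => Bool) (lF [T_bi, T_bi, T_gi, T_b, T_g] M (Nat.sub (T_bi u) (Nat.mod (T_bi u) M)) (Nat.mod (T_bi u) M) u) (lF [T_gi, T_b, T_g, T_bi, T_bi] M (Nat.sub (T_bi u) (Nat.mod (T_bi u) M)) (Nat.mod (T_bi u) M) u) (Nat.ble (nat_lit 8) j)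
noncomputable def dp_bi_1 (j u : ℕ) : Bool :=
  Bool.rec (motive := fun _ => Bool) (lS MG [T_b] M (Nat.sub (T_bi u) (Nat.mod (T_bi u) M)) (nat_lit 40) (Nat.mod (T_bi u) M) u) (dp_bi_0 j u) (Nat.ble (nat_lit 7) j)
noncomputable def dp_bi_2 (j u : ℕ) : Bool :=
  Bool.rec (motive := fun _ => Bool) (lS MG [T_g, T_b, T_b, T_b, T_gi] M (Nat.sub (T_bi u) (Nat.mod (T_bi u) M)) (nat_lit 40) (Nat.mod (T_bi u) M) u) (lS MG [T_ni, T_b, T_n] M (Nat.sub (T_bi u) (Nat.mod (T_bi u) M)) (nat_lit 40) (Nat.mod (T_bi u) M) u) (Nat.ble (nat_lit 11) j)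
noncomputable def dp_bi_3 (j u : ℕ) : Bool :=
  Bool.rec (motive := fun _ => Bool) (lS MG [T_n, T_b, T_ni] M (Nat.sub (T_bi u) (Nat.mod (T_bi u) M)) (nat_lit 40) (Nat.mod (T_bi u) M) u) (lF [T_f, T_b, T_g, T_fi, T_bi, T_f, T_b, T_fi, T_g, T_f, T_g] M (Nat.sub (T_bi u) (Nat.mod (T_bi u) M)) (Nat.mod (T_bi u) M) u) (Nat.ble (nat_lit 13) j)
noncomputable def dp_bi_4 (j u : ℕ) : Bool :=
  Bool.rec (motive := fun _ => Bool) (dp_bi_2 j u) (dp_bi_3 j u) (Nat.ble (nat_lit 12) j)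
noncomputable def dp_bi_5 (j u : ℕ) : Bool :=
  Bool.rec (motive := fun _ => Bool) (lF [T_bi, T_gi, T_b, T_g, T_bi] M (Nat.sub (T_bi u) (Nat.mod (T_bi u) M)) (Nat.mod (T_bi u) M) u) (dp_bi_4 j u) (Nat.ble (nat_lit 10) j)
noncomputable def dp_bi_6 (j u : ℕ) : Bool :=
  Bool.rec (motive := fun _ => Bool) (lF [T_fi, T_gi, T_b, T_b, T_f, T_b, T_f, T_g, T_f, T_gi, T_fi] M (Nat.sub (T_bi u) (Nat.mod (T_bi u) M)) (Nat.mod (T_bi u) M) u) (lS MG [T_bi, T_bi, T_gi, T_b, T_g] M (Nat.sub (T_bi u) (Nat.mod (T_bi u) M)) (nat_lit 40) (Nat.mod (T_bi u) M) u) (Nat.ble (nat_lit 15) j)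
noncomputable def dp_bi_7 (j u : ℕ) : Bool :=
  Bool.rec (motive := fun _ => Bool) (lS MG [T_f, T_b, T_g, T_fi, T_bi, T_f, T_b, T_fi, T_g, T_f, T_g] M (Nat.sub (T_bi u) (Nat.mod (T_bi u) M)) (nat_lit 40) (Nat.mod (T_bi u) M) u) (lS MG [T_fi, T_gi, T_b, T_b, T_f, T_b, T_f, T_g, T_f, T_gi, T_fi] M (Nat.sub (T_bi u) (Nat.mod (T_bi u) M)) (nat_lit 40) (Nat.mod (T_bi u) M) u) (Nat.ble (nat_lit 17) j)
noncomputable def dp_bi_8 (j u : ℕ) : Bool :=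
  Bool.rec (motive := fun _ => Bool) (dp_bi_6 j u) (dp_bi_7 j u) (Nat.ble (nat_lit 16) j)
noncomputable def dp_bi_9 (j u : ℕ) : Bool :=
  Bool.rec (motive := fun _ => Bool) (lS MG [T_gi, T_b, T_g, T_bi, T_bi] M (Nat.sub (T_bi u) (Nat.mod (T_bi u) M)) (nat_lit 40) (Nat.mod (T_bi u) M) u) (lF [T_fi, T_bi, T_bi, T_g, T_f, T_b, T_f, T_g, T_fi, T_gi, T_fi] M (Nat.sub (T_bi u) (Nat.mod (T_bi u) M)) (Nat.mod (T_bi u) M) u) (Nat.ble (nat_lit 19) j)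
noncomputable def dp_bi_10 (j u : ℕ) : Bool :=
  Bool.rec (motive := fun _ => Bool) (lS MG [T_fi, T_b, T_f, T_gi, T_bi, T_fi, T_b, T_gi, T_fi, T_gi, T_f] M (Nat.sub (T_bi u) (Nat.mod (T_bi u) M)) (nat_lit 40) (Nat.mod (T_bi u) M) u) (lS MG [T_fi, T_bi, T_bi, T_g, T_f, T_b, T_f, T_g, T_fi, T_gi, T_fi] M (Nat.sub (T_bi u) (Nat.mod (T_bi u) M)) (nat_lit 40) (Nat.mod (T_bi u) M) u) (Nat.ble (nat_lit 22) j)
noncomputable def dp_bi_11 (j u : ℕ) : Bool :=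
  Bool.rec (motive := fun _ => Bool) (lS MG [T_bi, T_gi, T_b, T_g, T_bi] M (Nat.sub (T_bi u) (Nat.mod (T_bi u) M)) (nat_lit 40) (Nat.mod (T_bi u) M) u) (dp_bi_10 j u) (Nat.ble (nat_lit 21) j)
noncomputable def dp_bi_12 (j u : ℕ) : Bool :=
  Bool.rec (motive := fun _ => Bool) (dp_bi_9 j u) (dp_bi_11 j u) (Nat.ble (nat_lit 20) j)
noncomputable def dp_bi_13 (j u : ℕ) : Bool :=
  Bool.rec (motive := fun _ => Bool) (dp_bi_8 j u) (dp_bi_12 j u) (Nat.ble (nat_lit 18) j)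
noncomputable def dp_bi_14 (j u : ℕ) : Bool :=
  Bool.rec (motive := fun _ => Bool) (lF [T_fi, T_bi, T_fi, T_bi, T_f, T_b, T_b, T_f, T_b, T_b, T_f] M (Nat.sub (T_bi u) (Nat.mod (T_bi u) M)) (Nat.mod (T_bi u) M) u) (lS MG [T_fi, T_bi, T_f, T_b, T_b, T_f, T_b, T_b, T_f, T_bi, T_fi] M (Nat.sub (T_bi u) (Nat.mod (T_bi u) M)) (nat_lit 40) (Nat.mod (T_bi u) M) u) (Nat.ble (nat_lit 24) j)
noncomputable def dp_bi_15 (j u : ℕ) : Bool :=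
  Bool.rec (motive := fun _ => Bool) (lS MG [T_fi, T_bi, T_fi, T_bi, T_f, T_b, T_b, T_f, T_b, T_b, T_f] M (Nat.sub (T_bi u) (Nat.mod (T_bi u) M)) (nat_lit 40) (Nat.mod (T_bi u) M) u) (lS MG [T_bi, T_fi, T_bi, T_bi, T_fi, T_b, T_f, T_b, T_f, T_b, T_fi] M (Nat.sub (T_bi u) (Nat.mod (T_bi u) M)) (nat_lit 40) (Nat.mod (T_bi u) M) u) (Nat.ble (nat_lit 26) j)
noncomputable def dp_bi_16 (j u : ℕ) : Bool :=
  Bool.rec (motive := fun _ => Bool) (dp_bi_14 j u) (dp_bi_15 j u) (Nat.ble (nat_lit 25) j)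
noncomputable def dp_bi_17 (j u : ℕ) : Bool :=
  Bool.rec (motive := fun _ => Bool) (lS MG [T_fi, T_b, T_gi, T_fi, T_gi, T_f, T_bi, T_fi, T_b, T_f, T_gi] M (Nat.sub (T_bi u) (Nat.mod (T_bi u) M)) (nat_lit 40) (Nat.mod (T_bi u) M) u) (lS MG [T_fi, T_bi, T_bi, T_fi, T_b, T_f, T_b, T_f, T_b, T_fi, T_bi] M (Nat.sub (T_bi u) (Nat.mod (T_bi u) M)) (nat_lit 40) (Nat.mod (T_bi u) M) u) (Nat.ble (nat_lit 28) j)
noncomputable def dp_bi_18 (j u : ℕ) : Bool :=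
  Bool.rec (motive := fun _ => Bool) (lS MG [T_f, T_b, T_b, T_f, T_b, T_b, T_f, T_bi, T_fi, T_bi, T_fi] M (Nat.sub (T_bi u) (Nat.mod (T_bi u) M)) (nat_lit 40) (Nat.mod (T_bi u) M) u) (lF [T_bi, T_fi, T_bi, T_bi, T_fi, T_b, T_f, T_b, T_f, T_b, T_fi] M (Nat.sub (T_bi u) (Nat.mod (T_bi u) M)) (Nat.mod (T_bi u) M) u) (Nat.ble (nat_lit 30) j)
noncomputable def dp_bi_19 (j u : ℕ) : Bool :=
  Bool.rec (motive := fun _ => Bool) (dp_bi_17 j u) (dp_bi_18 j u) (Nat.ble (nat_lit 29) j)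
noncomputable def dp_bi_20 (j u : ℕ) : Bool :=
  Bool.rec (motive := fun _ => Bool) (dp_bi_16 j u) (dp_bi_19 j u) (Nat.ble (nat_lit 27) j)
noncomputable def dp_bi_21 (j u : ℕ) : Bool :=
  Bool.rec (motive := fun _ => Bool) (lF [T_bi, T_fi, T_b, T_f, T_b, T_f, T_b, T_fi, T_bi, T_bi, T_fi] M (Nat.sub (T_bi u) (Nat.mod (T_bi u) M)) (Nat.mod (T_bi u) M) u) (lF [T_f, T_b, T_b, T_f, T_b, T_b, T_f, T_bi, T_fi, T_bi, T_fi] M (Nat.sub (T_bi u) (Nat.mod (T_bi u) M)) (Nat.mod (T_bi u) M) u) (Nat.ble (nat_lit 33) j)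
noncomputable def dp_bi_22 (j u : ℕ) : Bool :=
  Bool.rec (motive := fun _ => Bool) (lS MG [T_fi, T_b, T_f, T_b, T_f, T_b, T_fi, T_bi, T_bi, T_fi, T_bi] M (Nat.sub (T_bi u) (Nat.mod (T_bi u) M)) (nat_lit 40) (Nat.mod (T_bi u) M) u) (dp_bi_21 j u) (Nat.ble (nat_lit 32) j)
noncomputable def dp_bi_23 (j u : ℕ) : Bool :=
  Bool.rec (motive := fun _ => Bool) (lF [T_fi, T_b, T_gi, T_fi, T_gi, T_f, T_bi, T_fi, T_b, T_f, T_gi] M (Nat.sub (T_bi u) (Nat.mod (T_bi u) M)) (Nat.mod (T_bi u) M) u) (lF [T_f, T_b, T_fi, T_g, T_f, T_g, T_bi, T_f, T_b, T_g, T_fi] M (Nat.sub (T_bi u) (Nat.mod (T_bi u) M)) (Nat.mod (T_bi u) M) u) (Nat.ble (nat_lit 36) j)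
noncomputable def dp_bi_24 (j u : ℕ) : Bool :=
  Bool.rec (motive := fun _ => Bool) (lF [T_fi, T_b, T_f, T_gi, T_bi, T_fi, T_b, T_gi, T_fi, T_gi, T_f] M (Nat.sub (T_bi u) (Nat.mod (T_bi u) M)) (Nat.mod (T_bi u) M) u) (dp_bi_23 j u) (Nat.ble (nat_lit 35) j)
noncomputable def dp_bi_25 (j u : ℕ) : Bool :=
  Bool.rec (motive := fun _ => Bool) (dp_bi_22 j u) (dp_bi_24 j u) (Nat.ble (nat_lit 34) j)
noncomputable def dp_bi_26 (j u : ℕ) : Bool :=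
  Bool.rec (motive := fun _ => Bool) (lS MG [T_f, T_b, T_fi, T_g, T_f, T_g, T_bi, T_f, T_b, T_g, T_fi] M (Nat.sub (T_bi u) (Nat.mod (T_bi u) M)) (nat_lit 40) (Nat.mod (T_bi u) M) u) (lF [T_fi, T_bi, T_bi, T_fi, T_b, T_f, T_b, T_f, T_b, T_fi, T_bi] M (Nat.sub (T_bi u) (Nat.mod (T_bi u) M)) (Nat.mod (T_bi u) M) u) (Nat.ble (nat_lit 39) j)
noncomputable def dp_bi_27 (j u : ℕ) : Bool :=
  Bool.rec (motive := fun _ => Bool) (lF [T_fi, T_bi, T_f, T_b, T_b, T_f, T_b, T_b, T_f, T_bi, T_fi] M (Nat.sub (T_bi u) (Nat.mod (T_bi u) M)) (Nat.mod (T_bi u) M) u) (dp_bi_26 j u) (Nat.ble (nat_lit 38) j)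
noncomputable def dp_bi_28 (j u : ℕ) : Bool :=
  Bool.rec (motive := fun _ => Bool) (lS MG [T_bi, T_fi, T_b, T_f, T_b, T_f, T_b, T_fi, T_bi, T_bi, T_fi] M (Nat.sub (T_bi u) (Nat.mod (T_bi u) M)) (nat_lit 40) (Nat.mod (T_bi u) M) u) (lS MG [T_bi, T_g, T_f, T_b, T_f, T_g, T_fi, T_gi, T_fi, T_bi, T_fi] M (Nat.sub (T_bi u) (Nat.mod (T_bi u) M)) (nat_lit 40) (Nat.mod (T_bi u) M) u) (Nat.ble (nat_lit 42) j)
noncomputable def dp_bi_29 (j u : ℕ) : Bool :=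
  Bool.rec (motive := fun _ => Bool) (lS MG [T_g, T_f, T_b, T_f, T_g, T_fi, T_gi, T_fi, T_bi, T_fi, T_bi] M (Nat.sub (T_bi u) (Nat.mod (T_bi u) M)) (nat_lit 40) (Nat.mod (T_bi u) M) u) (dp_bi_28 j u) (Nat.ble (nat_lit 41) j)
noncomputable def dp_bi_30 (j u : ℕ) : Bool :=
  Bool.rec (motive := fun _ => Bool) (lF [T_fi, T_b, T_f, T_b, T_f, T_b, T_fi, T_bi, T_bi, T_fi, T_bi] M (Nat.sub (T_bi u) (Nat.mod (T_bi u) M)) (Nat.mod (T_bi u) M) u) (lF [T_bi, T_g, T_f, T_b, T_f, T_g, T_fi, T_gi, T_fi, T_bi, T_fi] M (Nat.sub (T_bi u) (Nat.mod (T_bi u) M)) (Nat.mod (T_bi u) M) u) (Nat.ble (nat_lit 45) j)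
noncomputable def dp_bi_31 (j u : ℕ) : Bool :=
  Bool.rec (motive := fun _ => Bool) (lF [T_g, T_f, T_b, T_f, T_g, T_fi, T_gi, T_fi, T_bi, T_fi, T_bi] M (Nat.sub (T_bi u) (Nat.mod (T_bi u) M)) (Nat.mod (T_bi u) M) u) (dp_bi_30 j u) (Nat.ble (nat_lit 44) j)
noncomputable def dp_bi_32 (j u : ℕ) : Bool :=
  Bool.rec (motive := fun _ => Bool) (dp_bi_29 j u) (dp_bi_31 j u) (Nat.ble (nat_lit 43) j)
noncomputable def dp_bi_33 (j u : ℕ) : Bool :=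
  Bool.rec (motive := fun _ => Bool) (dp_bi_27 j u) (dp_bi_32 j u) (Nat.ble (nat_lit 40) j)
noncomputable def dp_bi_34 (j u : ℕ) : Bool :=
  Bool.rec (motive := fun _ => Bool) (dp_bi_25 j u) (dp_bi_33 j u) (Nat.ble (nat_lit 37) j)
noncomputable def dp_bi_35 (j u : ℕ) : Bool :=
  Bool.rec (motive := fun _ => Bool) (dp_bi_20 j u) (dp_bi_34 j u) (Nat.ble (nat_lit 31) j)
noncomputable def dp_bi_36 (j u : ℕ) : Bool :=
  Bool.rec (motive := fun _ => Bool) (dp_bi_13 j u) (dp_bi_35 j u) (Nat.ble (nat_lit 23) j)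
noncomputable def dp_bi_37 (j u : ℕ) : Bool :=
  Bool.rec (motive := fun _ => Bool) (dp_bi_5 j u) (dp_bi_36 j u) (Nat.ble (nat_lit 14) j)
noncomputable def dp_bi_38 (j u : ℕ) : Bool :=
  Bool.rec (motive := fun _ => Bool) (dp_bi_1 j u) (dp_bi_37 j u) (Nat.ble (nat_lit 9) j)
noncomputable def dp_bi_39 (j u : ℕ) : Bool :=
  Bool.rec (motive := fun _ => Bool) (Bool.rec (motive := fun _ => Bool) (lF3 T_n T_b T_ni M (Nat.sub (T_bi u) (Nat.mod (T_bi u) M)) (Nat.mod (T_bi u) M) u) (lF [T_g, T_b, T_b, T_b, T_gi] M (Nat.sub (T_bi u) (Nat.mod (T_bi u) M)) (Nat.mod (T_bi u) M) u) (Nat.ble (nat_lit 5) j)) (dp_bi_38 j u) (Nat.ble (nat_lit 6) j)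
noncomputable def disp_bi (j u : ℕ) : Bool :=
  Bool.rec (motive := fun _ => Bool) (Bool.rec (motive := fun _ => Bool) (lF1 T_b M (Nat.sub (T_bi u) (Nat.mod (T_bi u) M)) (Nat.mod (T_bi u) M) u) (lDef P (nat_lit 1) (Nat.mod (T_bi u) M) u) (Nat.ble (nat_lit 1) j)) (Bool.rec (motive := fun _ => Bool) (Bool.rec (motive := fun _ => Bool) (lDef P (nat_lit 0) u (Nat.mod (T_bi u) M)) (lF3 T_ni T_b T_n M (Nat.sub (T_bi u) (Nat.mod (T_bi u) M)) (Nat.mod (T_bi u) M) u) (Nat.ble (nat_lit 3) j)) (dp_bi_39 j u) (Nat.ble (nat_lit 4) j)) (Nat.ble (nat_lit 2) j)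
noncomputable def chk_bi (j u : ℕ) : Bool :=
  Bool.rec (motive := fun _ => Bool) (disp_bi j u) (Nat.ble (Nat.succ (MG u)) A) (Nat.ble A (T_bi u))
noncomputable def dp_g_0 (j u : ℕ) : Bool :=
  Bool.rec (motive := fun _ => Bool) (lF [T_bi, T_bi, T_bi, T_gi, T_b] M (Nat.sub (T_g u) (Nat.mod (T_g u) M)) (Nat.mod (T_g u) M) u) (lS MG [T_gi] M (Nat.sub (T_g u) (Nat.mod (T_g u) M)) (nat_lit 40) (Nat.mod (T_g u) M) u) (Nat.ble (nat_lit 6) j)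
noncomputable def dp_g_1 (j u : ℕ) : Bool :=
  Bool.rec (motive := fun _ => Bool) (lF [T_n, T_g, T_n, T_g, T_n] M (Nat.sub (T_g u) (Nat.mod (T_g u) M)) (Nat.mod (T_g u) M) u) (lS MG [T_b, T_b, T_b, T_gi, T_bi] M (Nat.sub (T_g u) (Nat.mod (T_g u) M)) (nat_lit 40) (Nat.mod (T_g u) M) u) (Nat.ble (nat_lit 8) j)
noncomputable def dp_g_2 (j u : ℕ) : Bool :=
  Bool.rec (motive := fun _ => Bool) (lS MG [T_n, T_g, T_n, T_g, T_n] M (Nat.sub (T_g u) (Nat.mod (T_g u) M)) (nat_lit 40) (Nat.mod (T_g u) M) u) (lS MG [T_bi, T_bi, T_bi, T_gi, T_b] M (Nat.sub (T_g u) (Nat.mod (T_g u) M)) (nat_lit 40) (Nat.mod (T_g u) M) u) (Nat.ble (nat_lit 10) j)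
noncomputable def dp_g_3 (j u : ℕ) : Bool :=
  Bool.rec (motive := fun _ => Bool) (lF [T_bi, T_f, T_b, T_g, T_fi, T_bi, T_f, T_b, T_fi, T_g, T_f] M (Nat.sub (T_g u) (Nat.mod (T_g u) M)) (Nat.mod (T_g u) M) u) (lF3 T_z T_gi T_zi M (Nat.sub (T_g u) (Nat.mod (T_g u) M)) (Nat.mod (T_g u) M) u) (Nat.ble (nat_lit 13) j)
noncomputable def dp_g_4 (j u : ℕ) : Bool :=
  Bool.rec (motive := fun _ => Bool) (lF [T_fi, T_gi, T_fi, T_bi, T_fi, T_bi, T_bi, T_g, T_f, T_b, T_f] M (Nat.sub (T_g u) (Nat.mod (T_g u) M)) (Nat.mod (T_g u) M) u) (dp_g_3 j u) (Nat.ble (nat_lit 12) j)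
noncomputable def dp_g_5 (j u : ℕ) : Bool :=
  Bool.rec (motive := fun _ => Bool) (dp_g_2 j u) (dp_g_4 j u) (Nat.ble (nat_lit 11) j)
noncomputable def dp_g_6 (j u : ℕ) : Bool :=
  Bool.rec (motive := fun _ => Bool) (lS MG [T_bi, T_f, T_b, T_g, T_fi, T_bi, T_f, T_b, T_fi, T_g, T_f] M (Nat.sub (T_g u) (Nat.mod (T_g u) M)) (nat_lit 40) (Nat.mod (T_g u) M) u) (lS MG [T_fi, T_bi, T_f, T_b, T_fi, T_g, T_f, T_g, T_bi, T_f, T_b] M (Nat.sub (T_g u) (Nat.mod (T_g u) M)) (nat_lit 40) (Nat.mod (T_g u) M) u) (Nat.ble (nat_lit 15) j)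
noncomputable def dp_g_7 (j u : ℕ) : Bool :=
  Bool.rec (motive := fun _ => Bool) (lS MG [T_fi, T_gi, T_fi, T_bi, T_fi, T_bi, T_bi, T_g, T_f, T_b, T_f] M (Nat.sub (T_g u) (Nat.mod (T_g u) M)) (nat_lit 40) (Nat.mod (T_g u) M) u) (lF [T_f, T_gi, T_fi, T_bi, T_fi, T_gi, T_b, T_b, T_f, T_b, T_f] M (Nat.sub (T_g u) (Nat.mod (T_g u) M)) (Nat.mod (T_g u) M) u) (Nat.ble (nat_lit 17) j)
noncomputable def dp_g_8 (j u : ℕ) : Bool :=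
  Bool.rec (motive := fun _ => Bool) (dp_g_6 j u) (dp_g_7 j u) (Nat.ble (nat_lit 16) j)
noncomputable def dp_g_9 (j u : ℕ) : Bool :=
  Bool.rec (motive := fun _ => Bool) (lS MG [T_f, T_g, T_bi, T_f, T_b, T_g, T_fi, T_bi, T_f, T_b, T_fi] M (Nat.sub (T_g u) (Nat.mod (T_g u) M)) (nat_lit 40) (Nat.mod (T_g u) M) u) (lS MG [T_zi, T_gi, T_z] M (Nat.sub (T_g u) (Nat.mod (T_g u) M)) (nat_lit 40) (Nat.mod (T_g u) M) u) (Nat.ble (nat_lit 20) j)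
noncomputable def dp_g_10 (j u : ℕ) : Bool :=
  Bool.rec (motive := fun _ => Bool) (lF [T_f, T_g, T_bi, T_f, T_b, T_g, T_fi, T_bi, T_f, T_b, T_fi] M (Nat.sub (T_g u) (Nat.mod (T_g u) M)) (Nat.mod (T_g u) M) u) (dp_g_9 j u) (Nat.ble (nat_lit 19) j)
noncomputable def dp_g_11 (j u : ℕ) : Bool :=
  Bool.rec (motive := fun _ => Bool) (lS MG [T_f, T_gi, T_fi, T_bi, T_fi, T_gi, T_b, T_b, T_f, T_b, T_f] M (Nat.sub (T_g u) (Nat.mod (T_g u) M)) (nat_lit 40) (Nat.mod (T_g u) M) u) (lF [T_f, T_b, T_f, T_g, T_fi, T_gi, T_fi, T_bi, T_fi, T_bi, T_bi] M (Nat.sub (T_g u) (Nat.mod (T_g u) M)) (Nat.mod (T_g u) M) u) (Nat.ble (nat_lit 22) j)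
noncomputable def dp_g_12 (j u : ℕ) : Bool :=
  Bool.rec (motive := fun _ => Bool) (lS MG [T_z, T_gi, T_zi] M (Nat.sub (T_g u) (Nat.mod (T_g u) M)) (nat_lit 40) (Nat.mod (T_g u) M) u) (lH [] [] M (Nat.sub (T_g u) (Nat.mod (T_g u) M)) (Nat.mod (T_g u) M) u) (Nat.ble (nat_lit 26) j)
noncomputable def dp_g_13 (j u : ℕ) : Bool :=
  Bool.rec (motive := fun _ => Bool) (lF [T_fi, T_bi, T_f, T_b, T_fi, T_g, T_f, T_g, T_bi, T_f, T_b] M (Nat.sub (T_g u) (Nat.mod (T_g u) M)) (Nat.mod (T_g u) M) u) (dp_g_12 j u) (Nat.ble (nat_lit 25) j)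
noncomputable def dp_g_14 (j u : ℕ) : Bool :=
  Bool.rec (motive := fun _ => Bool) (lS MG [T_f, T_b, T_f, T_g, T_fi, T_gi, T_fi, T_bi, T_fi, T_bi, T_bi] M (Nat.sub (T_g u) (Nat.mod (T_g u) M)) (nat_lit 40) (Nat.mod (T_g u) M) u) (dp_g_13 j u) (Nat.ble (nat_lit 24) j)
noncomputable def dp_g_15 (j u : ℕ) : Bool :=
  Bool.rec (motive := fun _ => Bool) (dp_g_11 j u) (dp_g_14 j u) (Nat.ble (nat_lit 23) j)
noncomputable def dp_g_16 (j u : ℕ) : Bool :=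
  Bool.rec (motive := fun _ => Bool) (dp_g_10 j u) (dp_g_15 j u) (Nat.ble (nat_lit 21) j)
noncomputable def dp_g_17 (j u : ℕ) : Bool :=
  Bool.rec (motive := fun _ => Bool) (dp_g_8 j u) (dp_g_16 j u) (Nat.ble (nat_lit 18) j)
noncomputable def dp_g_18 (j u : ℕ) : Bool :=
  Bool.rec (motive := fun _ => Bool) (dp_g_5 j u) (dp_g_17 j u) (Nat.ble (nat_lit 14) j)
noncomputable def dp_g_19 (j u : ℕ) : Bool :=
  Bool.rec (motive := fun _ => Bool) (dp_g_1 j u) (dp_g_18 j u) (Nat.ble (nat_lit 9) j)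
noncomputable def dp_g_20 (j u : ℕ) : Bool :=
  Bool.rec (motive := fun _ => Bool) (dp_g_0 j u) (dp_g_19 j u) (Nat.ble (nat_lit 7) j)
noncomputable def dp_g_21 (j u : ℕ) : Bool :=
  Bool.rec (motive := fun _ => Bool) (Bool.rec (motive := fun _ => Bool) (lF3 T_zi T_gi T_z M (Nat.sub (T_g u) (Nat.mod (T_g u) M)) (Nat.mod (T_g u) M) u) (lF [T_b, T_b, T_b, T_gi, T_bi] M (Nat.sub (T_g u) (Nat.mod (T_g u) M)) (Nat.mod (T_g u) M) u) (Nat.ble (nat_lit 4) j)) (dp_g_20 j u) (Nat.ble (nat_lit 5) j)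
noncomputable def disp_g (j u : ℕ) : Bool :=
  Bool.rec (motive := fun _ => Bool) (Bool.rec (motive := fun _ => Bool) (lF1 T_gi M (Nat.sub (T_g u) (Nat.mod (T_g u) M)) (Nat.mod (T_g u) M) u) (lDef P (nat_lit 3) u (Nat.mod (T_g u) M)) (Nat.ble (nat_lit 1) j)) (Bool.rec (motive := fun _ => Bool) (lDef P (nat_lit 2) (Nat.mod (T_g u) M) u) (dp_g_21 j u) (Nat.ble (nat_lit 3) j)) (Nat.ble (nat_lit 2) j)
noncomputable def chk_g (j u : ℕ) : Bool :=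
  Bool.rec (motive := fun _ => Bool) (disp_g j u) (Nat.ble (Nat.succ (MG u)) A) (Nat.ble A (T_g u))
noncomputable def dp_gi_0 (j u : ℕ) : Bool :=
  Bool.rec (motive := fun _ => Bool) (lF [T_bi, T_g, T_b, T_b, T_b] M (Nat.sub (T_gi u) (Nat.mod (T_gi u) M)) (Nat.mod (T_gi u) M) u) (lF [T_ni, T_gi, T_ni, T_gi, T_ni] M (Nat.sub (T_gi u) (Nat.mod (T_gi u) M)) (Nat.mod (T_gi u) M) u) (Nat.ble (nat_lit 6) j)
noncomputable def dp_gi_1 (j u : ℕ) : Bool :=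
  Bool.rec (motive := fun _ => Bool) (lS MG [T_g] M (Nat.sub (T_gi u) (Nat.mod (T_gi u) M)) (nat_lit 40) (Nat.mod (T_gi u) M) u) (lS MG [T_bi, T_g, T_b, T_b, T_b] M (Nat.sub (T_gi u) (Nat.mod (T_gi u) M)) (nat_lit 40) (Nat.mod (T_gi u) M) u) (Nat.ble (nat_lit 8) j)
noncomputable def dp_gi_2 (j u : ℕ) : Bool :=
  Bool.rec (motive := fun _ => Bool) (lS MG [T_b, T_g, T_bi, T_bi, T_bi] M (Nat.sub (T_gi u) (Nat.mod (T_gi u) M)) (nat_lit 40) (Nat.mod (T_gi u) M) u) (lS MG [T_ni, T_gi, T_ni, T_gi, T_ni] M (Nat.sub (T_gi u) (Nat.mod (T_gi u) M)) (nat_lit 40) (Nat.mod (T_gi u) M) u) (Nat.ble (nat_lit 10) j)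
noncomputable def dp_gi_3 (j u : ℕ) : Bool :=
  Bool.rec (motive := fun _ => Bool) (lF [T_fi, T_bi, T_fi, T_gi, T_b, T_b, T_f, T_b, T_f, T_g, T_f] M (Nat.sub (T_gi u) (Nat.mod (T_gi u) M)) (Nat.mod (T_gi u) M) u) (lS MG [T_fi, T_bi, T_fi, T_gi, T_b, T_b, T_f, T_b, T_f, T_g, T_f] M (Nat.sub (T_gi u) (Nat.mod (T_gi u) M)) (nat_lit 40) (Nat.mod (T_gi u) M) u) (Nat.ble (nat_lit 13) j)
noncomputable def dp_gi_4 (j u : ℕ) : Bool :=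
  Bool.rec (motive := fun _ => Bool) (lF [T_fi, T_bi, T_fi, T_bi, T_bi, T_g, T_f, T_b, T_f, T_g, T_fi] M (Nat.sub (T_gi u) (Nat.mod (T_gi u) M)) (Nat.mod (T_gi u) M) u) (dp_gi_3 j u) (Nat.ble (nat_lit 12) j)
noncomputable def dp_gi_5 (j u : ℕ) : Bool :=
  Bool.rec (motive := fun _ => Bool) (dp_gi_2 j u) (dp_gi_4 j u) (Nat.ble (nat_lit 11) j)
noncomputable def dp_gi_6 (j u : ℕ) : Bool :=
  Bool.rec (motive := fun _ => Bool) (lF3 T_zi T_g T_z M (Nat.sub (T_gi u) (Nat.mod (T_gi u) M)) (Nat.mod (T_gi u) M) u) (lS MG [T_z, T_g, T_zi] M (Nat.sub (T_gi u) (Nat.mod (T_gi u) M)) (nat_lit 40) (Nat.mod (T_gi u) M) u) (Nat.ble (nat_lit 15) j)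
noncomputable def dp_gi_7 (j u : ℕ) : Bool :=
  Bool.rec (motive := fun _ => Bool) (lS MG [T_fi, T_gi, T_f, T_bi, T_fi, T_b, T_f, T_gi, T_bi, T_fi, T_b] M (Nat.sub (T_gi u) (Nat.mod (T_gi u) M)) (nat_lit 40) (Nat.mod (T_gi u) M) u) (lF [T_f, T_bi, T_fi, T_b, T_f, T_gi, T_bi, T_fi, T_b, T_gi, T_fi] M (Nat.sub (T_gi u) (Nat.mod (T_gi u) M)) (Nat.mod (T_gi u) M) u) (Nat.ble (nat_lit 17) j)
noncomputable def dp_gi_8 (j u : ℕ) : Bool :=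
  Bool.rec (motive := fun _ => Bool) (dp_gi_6 j u) (dp_gi_7 j u) (Nat.ble (nat_lit 16) j)
noncomputable def dp_gi_9 (j u : ℕ) : Bool :=
  Bool.rec (motive := fun _ => Bool) (lS MG [T_fi, T_bi, T_fi, T_bi, T_bi, T_g, T_f, T_b, T_f, T_g, T_fi] M (Nat.sub (T_gi u) (Nat.mod (T_gi u) M)) (nat_lit 40) (Nat.mod (T_gi u) M) u) (lF [T_fi, T_gi, T_f, T_bi, T_fi, T_b, T_f, T_gi, T_bi, T_fi, T_b] M (Nat.sub (T_gi u) (Nat.mod (T_gi u) M)) (Nat.mod (T_gi u) M) u) (Nat.ble (nat_lit 19) j)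
noncomputable def dp_gi_10 (j u : ℕ) : Bool :=
  Bool.rec (motive := fun _ => Bool) (lS MG [T_f, T_bi, T_fi, T_b, T_f, T_gi, T_bi, T_fi, T_b, T_gi, T_fi] M (Nat.sub (T_gi u) (Nat.mod (T_gi u) M)) (nat_lit 40) (Nat.mod (T_gi u) M) u) (lS MG [T_bi, T_fi, T_b, T_gi, T_fi, T_gi, T_f, T_bi, T_fi, T_b, T_f] M (Nat.sub (T_gi u) (Nat.mod (T_gi u) M)) (nat_lit 40) (Nat.mod (T_gi u) M) u) (Nat.ble (nat_lit 21) j)
noncomputable def dp_gi_11 (j u : ℕ) : Bool :=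
  Bool.rec (motive := fun _ => Bool) (lS MG [T_b, T_b, T_f, T_b, T_f, T_g, T_f, T_gi, T_fi, T_bi, T_fi] M (Nat.sub (T_gi u) (Nat.mod (T_gi u) M)) (nat_lit 40) (Nat.mod (T_gi u) M) u) (lS MG [T_zi, T_g, T_z] M (Nat.sub (T_gi u) (Nat.mod (T_gi u) M)) (nat_lit 40) (Nat.mod (T_gi u) M) u) (Nat.ble (nat_lit 25) j)
noncomputable def dp_gi_12 (j u : ℕ) : Bool :=
  Bool.rec (motive := fun _ => Bool) (lF [T_bi, T_fi, T_b, T_gi, T_fi, T_gi, T_f, T_bi, T_fi, T_b, T_f] M (Nat.sub (T_gi u) (Nat.mod (T_gi u) M)) (Nat.mod (T_gi u) M) u) (dp_gi_11 j u) (Nat.ble (nat_lit 24) j)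
noncomputable def dp_gi_13 (j u : ℕ) : Bool :=
  Bool.rec (motive := fun _ => Bool) (lF [T_b, T_b, T_f, T_b, T_f, T_g, T_f, T_gi, T_fi, T_bi, T_fi] M (Nat.sub (T_gi u) (Nat.mod (T_gi u) M)) (Nat.mod (T_gi u) M) u) (dp_gi_12 j u) (Nat.ble (nat_lit 23) j)
noncomputable def dp_gi_14 (j u : ℕ) : Bool :=
  Bool.rec (motive := fun _ => Bool) (dp_gi_10 j u) (dp_gi_13 j u) (Nat.ble (nat_lit 22) j)
noncomputable def dp_gi_15 (j u : ℕ) : Bool :=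
  Bool.rec (motive := fun _ => Bool) (dp_gi_9 j u) (dp_gi_14 j u) (Nat.ble (nat_lit 20) j)
noncomputable def dp_gi_16 (j u : ℕ) : Bool :=
  Bool.rec (motive := fun _ => Bool) (dp_gi_8 j u) (dp_gi_15 j u) (Nat.ble (nat_lit 18) j)
noncomputable def dp_gi_17 (j u : ℕ) : Bool :=
  Bool.rec (motive := fun _ => Bool) (dp_gi_5 j u) (dp_gi_16 j u) (Nat.ble (nat_lit 14) j)
noncomputable def dp_gi_18 (j u : ℕ) : Bool :=
  Bool.rec (motive := fun _ => Bool) (dp_gi_1 j u) (dp_gi_17 j u) (Nat.ble (nat_lit 9) j)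
noncomputable def dp_gi_19 (j u : ℕ) : Bool :=
  Bool.rec (motive := fun _ => Bool) (dp_gi_0 j u) (dp_gi_18 j u) (Nat.ble (nat_lit 7) j)
noncomputable def dp_gi_20 (j u : ℕ) : Bool :=
  Bool.rec (motive := fun _ => Bool) (Bool.rec (motive := fun _ => Bool) (lF3 T_z T_g T_zi M (Nat.sub (T_gi u) (Nat.mod (T_gi u) M)) (Nat.mod (T_gi u) M) u) (lF [T_b, T_g, T_bi, T_bi, T_bi] M (Nat.sub (T_gi u) (Nat.mod (T_gi u) M)) (Nat.mod (T_gi u) M) u) (Nat.ble (nat_lit 4) j)) (dp_gi_19 j u) (Nat.ble (nat_lit 5) j)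
noncomputable def disp_gi (j u : ℕ) : Bool :=
  Bool.rec (motive := fun _ => Bool) (Bool.rec (motive := fun _ => Bool) (lF1 T_g M (Nat.sub (T_gi u) (Nat.mod (T_gi u) M)) (Nat.mod (T_gi u) M) u) (lDef P (nat_lit 3) (Nat.mod (T_gi u) M) u) (Nat.ble (nat_lit 1) j)) (Bool.rec (motive := fun _ => Bool) (lDef P (nat_lit 2) u (Nat.mod (T_gi u) M)) (dp_gi_20 j u) (Nat.ble (nat_lit 3) j)) (Nat.ble (nat_lit 2) j)
noncomputable def chk_gi (j u : ℕ) : Bool :=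
  Bool.rec (motive := fun _ => Bool) (disp_gi j u) (Nat.ble (Nat.succ (MG u)) A) (Nat.ble A (T_gi u))
noncomputable def dp_f_0 (j u : ℕ) : Bool :=
  Bool.rec (motive := fun _ => Bool) (lF [T_g, T_fi, T_gi, T_fi, T_bi, T_fi, T_bi, T_bi, T_g, T_f, T_b] M (Nat.sub (T_f u) (Nat.mod (T_f u) M)) (Nat.mod (T_f u) M) u) (lF [T_gi, T_fi, T_bi, T_fi, T_gi, T_b, T_b, T_f, T_b, T_f, T_g] M (Nat.sub (T_f u) (Nat.mod (T_f u) M)) (Nat.mod (T_f u) M) u) (Nat.ble (nat_lit 9) j)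
noncomputable def dp_f_1 (j u : ℕ) : Bool :=
  Bool.rec (motive := fun _ => Bool) (lS MG [T_gi, T_fi, T_bi, T_fi, T_gi, T_b, T_b, T_f, T_b, T_f, T_g] M (Nat.sub (T_f u) (Nat.mod (T_f u) M)) (nat_lit 40) (Nat.mod (T_f u) M) u) (dp_f_0 j u) (Nat.ble (nat_lit 8) j)
noncomputable def dp_f_2 (j u : ℕ) : Bool :=
  Bool.rec (motive := fun _ => Bool) (lS MG [T_fi] M (Nat.sub (T_f u) (Nat.mod (T_f u) M)) (nat_lit 40) (Nat.mod (T_f u) M) u) (dp_f_1 j u) (Nat.ble (nat_lit 7) j)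
noncomputable def dp_f_3 (j u : ℕ) : Bool :=
  Bool.rec (motive := fun _ => Bool) (lS MG [T_n, T_f, T_ni] M (Nat.sub (T_f u) (Nat.mod (T_f u) M)) (nat_lit 40) (Nat.mod (T_f u) M) u) (lS MG [T_g, T_bi, T_f, T_b, T_g, T_fi, T_bi, T_f, T_b, T_fi, T_g] M (Nat.sub (T_f u) (Nat.mod (T_f u) M)) (nat_lit 40) (Nat.mod (T_f u) M) u) (Nat.ble (nat_lit 11) j)
noncomputable def dp_f_4 (j u : ℕ) : Bool :=
  Bool.rec (motive := fun _ => Bool) (lF [T_b, T_g, T_fi, T_bi, T_f, T_b, T_fi, T_g, T_f, T_g, T_bi] M (Nat.sub (T_f u) (Nat.mod (T_f u) M)) (Nat.mod (T_f u) M) u) (lS MG [T_ni, T_f, T_n] M (Nat.sub (T_f u) (Nat.mod (T_f u) M)) (nat_lit 40) (Nat.mod (T_f u) M) u) (Nat.ble (nat_lit 13) j)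
noncomputable def dp_f_5 (j u : ℕ) : Bool :=
  Bool.rec (motive := fun _ => Bool) (dp_f_3 j u) (dp_f_4 j u) (Nat.ble (nat_lit 12) j)
noncomputable def dp_f_6 (j u : ℕ) : Bool :=
  Bool.rec (motive := fun _ => Bool) (lS MG [T_g, T_fi, T_gi, T_fi, T_bi, T_fi, T_bi, T_bi, T_g, T_f, T_b] M (Nat.sub (T_f u) (Nat.mod (T_f u) M)) (nat_lit 40) (Nat.mod (T_f u) M) u) (lF [T_g, T_f, T_gi, T_fi, T_bi, T_fi, T_gi, T_b, T_b, T_f, T_b] M (Nat.sub (T_f u) (Nat.mod (T_f u) M)) (Nat.mod (T_f u) M) u) (Nat.ble (nat_lit 15) j)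
noncomputable def dp_f_7 (j u : ℕ) : Bool :=
  Bool.rec (motive := fun _ => Bool) (lS MG [T_bi, T_fi, T_b, T_f, T_gi, T_bi, T_fi, T_b, T_gi, T_fi, T_gi] M (Nat.sub (T_f u) (Nat.mod (T_f u) M)) (nat_lit 40) (Nat.mod (T_f u) M) u) (lF [T_g, T_bi, T_f, T_b, T_g, T_fi, T_bi, T_f, T_b, T_fi, T_g] M (Nat.sub (T_f u) (Nat.mod (T_f u) M)) (Nat.mod (T_f u) M) u) (Nat.ble (nat_lit 18) j)
noncomputable def dp_f_8 (j u : ℕ) : Bool :=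
  Bool.rec (motive := fun _ => Bool) (lS MG [T_g, T_f, T_gi, T_fi, T_bi, T_fi, T_gi, T_b, T_b, T_f, T_b] M (Nat.sub (T_f u) (Nat.mod (T_f u) M)) (nat_lit 40) (Nat.mod (T_f u) M) u) (dp_f_7 j u) (Nat.ble (nat_lit 17) j)
noncomputable def dp_f_9 (j u : ℕ) : Bool :=
  Bool.rec (motive := fun _ => Bool) (dp_f_6 j u) (dp_f_8 j u) (Nat.ble (nat_lit 16) j)
noncomputable def dp_f_10 (j u : ℕ) : Bool :=
  Bool.rec (motive := fun _ => Bool) (dp_f_5 j u) (dp_f_9 j u) (Nat.ble (nat_lit 14) j)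
noncomputable def dp_f_11 (j u : ℕ) : Bool :=
  Bool.rec (motive := fun _ => Bool) (lS MG [T_b, T_g, T_fi, T_bi, T_f, T_b, T_fi, T_g, T_f, T_g, T_bi] M (Nat.sub (T_f u) (Nat.mod (T_f u) M)) (nat_lit 40) (Nat.mod (T_f u) M) u) (lS MG [T_b, T_f, T_g, T_f, T_gi, T_fi, T_bi, T_fi, T_gi, T_b, T_b] M (Nat.sub (T_f u) (Nat.mod (T_f u) M)) (nat_lit 40) (Nat.mod (T_f u) M) u) (Nat.ble (nat_lit 20) j)
noncomputable def dp_f_12 (j u : ℕ) : Bool :=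
  Bool.rec (motive := fun _ => Bool) (lS MG [T_bi, T_fi, T_bi, T_fi, T_bi, T_f, T_b, T_b, T_f, T_b, T_b] M (Nat.sub (T_f u) (Nat.mod (T_f u) M)) (nat_lit 40) (Nat.mod (T_f u) M) u) (lS MG [T_b, T_fi, T_g, T_f, T_g, T_bi, T_f, T_b, T_g, T_fi, T_bi] M (Nat.sub (T_f u) (Nat.mod (T_f u) M)) (nat_lit 40) (Nat.mod (T_f u) M) u) (Nat.ble (nat_lit 22) j)
noncomputable def dp_f_13 (j u : ℕ) : Bool :=
  Bool.rec (motive := fun _ => Bool) (dp_f_11 j u) (dp_f_12 j u) (Nat.ble (nat_lit 21) j)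
noncomputable def dp_f_14 (j u : ℕ) : Bool :=
  Bool.rec (motive := fun _ => Bool) (lS MG [T_b, T_b, T_f, T_b, T_b, T_f, T_bi, T_fi, T_bi, T_fi, T_bi] M (Nat.sub (T_f u) (Nat.mod (T_f u) M)) (nat_lit 40) (Nat.mod (T_f u) M) u) (lS MG [T_b, T_f, T_g, T_fi, T_gi, T_fi, T_bi, T_fi, T_bi, T_bi, T_g] M (Nat.sub (T_f u) (Nat.mod (T_f u) M)) (nat_lit 40) (Nat.mod (T_f u) M) u) (Nat.ble (nat_lit 24) j)
noncomputable def dp_f_15 (j u : ℕ) : Bool :=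
  Bool.rec (motive := fun _ => Bool) (lF [T_b, T_b, T_f, T_bi, T_fi, T_bi, T_fi, T_bi, T_f, T_b, T_b] M (Nat.sub (T_f u) (Nat.mod (T_f u) M)) (Nat.mod (T_f u) M) u) (lF [T_b, T_f, T_g, T_f, T_gi, T_fi, T_bi, T_fi, T_gi, T_b, T_b] M (Nat.sub (T_f u) (Nat.mod (T_f u) M)) (Nat.mod (T_f u) M) u) (Nat.ble (nat_lit 26) j)
noncomputable def dp_f_16 (j u : ℕ) : Bool :=
  Bool.rec (motive := fun _ => Bool) (dp_f_14 j u) (dp_f_15 j u) (Nat.ble (nat_lit 25) j)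
noncomputable def dp_f_17 (j u : ℕ) : Bool :=
  Bool.rec (motive := fun _ => Bool) (dp_f_13 j u) (dp_f_16 j u) (Nat.ble (nat_lit 23) j)
noncomputable def dp_f_18 (j u : ℕ) : Bool :=
  Bool.rec (motive := fun _ => Bool) (lS MG [T_gi, T_bi, T_fi, T_b, T_gi, T_fi, T_gi, T_f, T_bi, T_fi, T_b] M (Nat.sub (T_f u) (Nat.mod (T_f u) M)) (nat_lit 40) (Nat.mod (T_f u) M) u) (lF [T_bi, T_fi, T_b, T_f, T_gi, T_bi, T_fi, T_b, T_gi, T_fi, T_gi] M (Nat.sub (T_f u) (Nat.mod (T_f u) M)) (Nat.mod (T_f u) M) u) (Nat.ble (nat_lit 28) j)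
noncomputable def dp_f_19 (j u : ℕ) : Bool :=
  Bool.rec (motive := fun _ => Bool) (lF [T_bi, T_fi, T_bi, T_fi, T_bi, T_f, T_b, T_b, T_f, T_b, T_b] M (Nat.sub (T_f u) (Nat.mod (T_f u) M)) (Nat.mod (T_f u) M) u) (lS MG [T_b, T_fi, T_bi, T_bi, T_fi, T_bi, T_bi, T_fi, T_b, T_f, T_b] M (Nat.sub (T_f u) (Nat.mod (T_f u) M)) (nat_lit 40) (Nat.mod (T_f u) M) u) (Nat.ble (nat_lit 31) j)
noncomputable def dp_f_20 (j u : ℕ) : Bool :=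
  Bool.rec (motive := fun _ => Bool) (lF [T_b, T_f, T_g, T_fi, T_gi, T_fi, T_bi, T_fi, T_bi, T_bi, T_g] M (Nat.sub (T_f u) (Nat.mod (T_f u) M)) (Nat.mod (T_f u) M) u) (dp_f_19 j u) (Nat.ble (nat_lit 30) j)
noncomputable def dp_f_21 (j u : ℕ) : Bool :=
  Bool.rec (motive := fun _ => Bool) (dp_f_18 j u) (dp_f_20 j u) (Nat.ble (nat_lit 29) j)
noncomputable def dp_f_22 (j u : ℕ) : Bool :=
  Bool.rec (motive := fun _ => Bool) (lF [T_b, T_fi, T_bi, T_bi, T_fi, T_bi, T_bi, T_fi, T_b, T_f, T_b] M (Nat.sub (T_f u) (Nat.mod (T_f u) M)) (Nat.mod (T_f u) M) u) (lF [T_b, T_f, T_b, T_fi, T_bi, T_bi, T_fi, T_bi, T_bi, T_fi, T_b] M (Nat.sub (T_f u) (Nat.mod (T_f u) M)) (Nat.mod (T_f u) M) u) (Nat.ble (nat_lit 34) j)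
noncomputable def dp_f_23 (j u : ℕ) : Bool :=
  Bool.rec (motive := fun _ => Bool) (lF [T_b, T_fi, T_g, T_f, T_g, T_bi, T_f, T_b, T_g, T_fi, T_bi] M (Nat.sub (T_f u) (Nat.mod (T_f u) M)) (Nat.mod (T_f u) M) u) (dp_f_22 j u) (Nat.ble (nat_lit 33) j)
noncomputable def dp_f_24 (j u : ℕ) : Bool :=
  Bool.rec (motive := fun _ => Bool) (lF [T_gi, T_bi, T_fi, T_b, T_gi, T_fi, T_gi, T_f, T_bi, T_fi, T_b] M (Nat.sub (T_f u) (Nat.mod (T_f u) M)) (Nat.mod (T_f u) M) u) (lF [T_b, T_b, T_f, T_b, T_b, T_f, T_bi, T_fi, T_bi, T_fi, T_bi] M (Nat.sub (T_f u) (Nat.mod (T_f u) M)) (Nat.mod (T_f u) M) u) (Nat.ble (nat_lit 36) j)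
noncomputable def dp_f_25 (j u : ℕ) : Bool :=
  Bool.rec (motive := fun _ => Bool) (lS MG [T_f, T_f] M (Nat.sub (T_f u) (Nat.mod (T_f u) M)) (nat_lit 40) (Nat.mod (T_f u) M) u) (lH [] [] M (Nat.sub (T_f u) (Nat.mod (T_f u) M)) (Nat.mod (T_f u) M) u) (Nat.ble (nat_lit 40) j)
noncomputable def dp_f_26 (j u : ℕ) : Bool :=
  Bool.rec (motive := fun _ => Bool) (lS MG [T_b, T_b, T_f, T_bi, T_fi, T_bi, T_fi, T_bi, T_f, T_b, T_b] M (Nat.sub (T_f u) (Nat.mod (T_f u) M)) (nat_lit 40) (Nat.mod (T_f u) M) u) (dp_f_25 j u) (Nat.ble (nat_lit 39) j)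
noncomputable def dp_f_27 (j u : ℕ) : Bool :=
  Bool.rec (motive := fun _ => Bool) (lS MG [T_b, T_f, T_b, T_fi, T_bi, T_bi, T_fi, T_bi, T_bi, T_fi, T_b] M (Nat.sub (T_f u) (Nat.mod (T_f u) M)) (nat_lit 40) (Nat.mod (T_f u) M) u) (dp_f_26 j u) (Nat.ble (nat_lit 38) j)
noncomputable def dp_f_28 (j u : ℕ) : Bool :=
  Bool.rec (motive := fun _ => Bool) (dp_f_24 j u) (dp_f_27 j u) (Nat.ble (nat_lit 37) j)
noncomputable def dp_f_29 (j u : ℕ) : Bool :=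
  Bool.rec (motive := fun _ => Bool) (dp_f_23 j u) (dp_f_28 j u) (Nat.ble (nat_lit 35) j)
noncomputable def dp_f_30 (j u : ℕ) : Bool :=
  Bool.rec (motive := fun _ => Bool) (dp_f_21 j u) (dp_f_29 j u) (Nat.ble (nat_lit 32) j)
noncomputable def dp_f_31 (j u : ℕ) : Bool :=
  Bool.rec (motive := fun _ => Bool) (dp_f_17 j u) (dp_f_30 j u) (Nat.ble (nat_lit 27) j)
noncomputable def dp_f_32 (j u : ℕ) : Bool :=
  Bool.rec (motive := fun _ => Bool) (dp_f_10 j u) (dp_f_31 j u) (Nat.ble (nat_lit 19) j)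
noncomputable def dp_f_33 (j u : ℕ) : Bool :=
  Bool.rec (motive := fun _ => Bool) (dp_f_2 j u) (dp_f_32 j u) (Nat.ble (nat_lit 10) j)
noncomputable def dp_f_34 (j u : ℕ) : Bool :=
  Bool.rec (motive := fun _ => Bool) (lF3 T_ni T_f T_n M (Nat.sub (T_f u) (Nat.mod (T_f u) M)) (Nat.mod (T_f u) M) u) (dp_f_33 j u) (Nat.ble (nat_lit 6) j)
noncomputable def dp_f_35 (j u : ℕ) : Bool :=
  Bool.rec (motive := fun _ => Bool) (lF3 T_n T_f T_ni M (Nat.sub (T_f u) (Nat.mod (T_f u) M)) (Nat.mod (T_f u) M) u) (dp_f_34 j u) (Nat.ble (nat_lit 5) j)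
noncomputable def disp_f (j u : ℕ) : Bool :=
  Bool.rec (motive := fun _ => Bool) (Bool.rec (motive := fun _ => Bool) (lF1 T_fi M (Nat.sub (T_f u) (Nat.mod (T_f u) M)) (Nat.mod (T_f u) M) u) (lF [T_f, T_f] M (Nat.sub (T_f u) (Nat.mod (T_f u) M)) (Nat.mod (T_f u) M) u) (Nat.ble (nat_lit 1) j)) (Bool.rec (motive := fun _ => Bool) (Bool.rec (motive := fun _ => Bool) (lDef P (nat_lit 5) u (Nat.mod (T_f u) M)) (lDef P (nat_lit 4) (Nat.mod (T_f u) M) u) (Nat.ble (nat_lit 3) j)) (dp_f_35 j u) (Nat.ble (nat_lit 4) j)) (Nat.ble (nat_lit 2) j)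
noncomputable def chk_f (j u : ℕ) : Bool :=
  Bool.rec (motive := fun _ => Bool) (disp_f j u) (Nat.ble (Nat.succ (MG u)) A) (Nat.ble A (T_f u))
noncomputable def dp_fi_0 (j u : ℕ) : Bool :=
  Bool.rec (motive := fun _ => Bool) (lF [T_gi, T_fi, T_bi, T_fi, T_bi, T_bi, T_g, T_f, T_b, T_f, T_g] M (Nat.sub (T_fi u) (Nat.mod (T_fi u) M)) (Nat.mod (T_fi u) M) u) (lS MG [T_gi, T_fi, T_bi, T_fi, T_bi, T_bi, T_g, T_f, T_b, T_f, T_g] M (Nat.sub (T_fi u) (Nat.mod (T_fi u) M)) (nat_lit 40) (Nat.mod (T_fi u) M) u) (Nat.ble (nat_lit 8) j)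
noncomputable def dp_fi_1 (j u : ℕ) : Bool :=
  Bool.rec (motive := fun _ => Bool) (lF [T_gi, T_f, T_bi, T_fi, T_b, T_f, T_gi, T_bi, T_fi, T_b, T_gi] M (Nat.sub (T_fi u) (Nat.mod (T_fi u) M)) (Nat.mod (T_fi u) M) u) (lS MG [T_bi, T_fi, T_gi, T_b, T_b, T_f, T_b, T_f, T_g, T_f, T_gi] M (Nat.sub (T_fi u) (Nat.mod (T_fi u) M)) (nat_lit 40) (Nat.mod (T_fi u) M) u) (Nat.ble (nat_lit 10) j)
noncomputable def dp_fi_2 (j u : ℕ) : Bool :=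
  Bool.rec (motive := fun _ => Bool) (dp_fi_0 j u) (dp_fi_1 j u) (Nat.ble (nat_lit 9) j)
noncomputable def dp_fi_3 (j u : ℕ) : Bool :=
  Bool.rec (motive := fun _ => Bool) (lS MG [T_f] M (Nat.sub (T_fi u) (Nat.mod (T_fi u) M)) (nat_lit 40) (Nat.mod (T_fi u) M) u) (dp_fi_2 j u) (Nat.ble (nat_lit 7) j)
noncomputable def dp_fi_4 (j u : ℕ) : Bool :=
  Bool.rec (motive := fun _ => Bool) (lS MG [T_ni, T_fi, T_n] M (Nat.sub (T_fi u) (Nat.mod (T_fi u) M)) (nat_lit 40) (Nat.mod (T_fi u) M) u) (lF [T_b, T_gi, T_fi, T_gi, T_f, T_bi, T_fi, T_b, T_f, T_gi, T_bi] M (Nat.sub (T_fi u) (Nat.mod (T_fi u) M)) (Nat.mod (T_fi u) M) u) (Nat.ble (nat_lit 12) j)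
noncomputable def dp_fi_5 (j u : ℕ) : Bool :=
  Bool.rec (motive := fun _ => Bool) (lS MG [T_bi, T_fi, T_bi, T_bi, T_g, T_f, T_b, T_f, T_g, T_fi, T_gi] M (Nat.sub (T_fi u) (Nat.mod (T_fi u) M)) (nat_lit 40) (Nat.mod (T_fi u) M) u) (lS MG [T_gi, T_f, T_bi, T_fi, T_b, T_f, T_gi, T_bi, T_fi, T_b, T_gi] M (Nat.sub (T_fi u) (Nat.mod (T_fi u) M)) (nat_lit 40) (Nat.mod (T_fi u) M) u) (Nat.ble (nat_lit 14) j)
noncomputable def dp_fi_6 (j u : ℕ) : Bool :=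
  Bool.rec (motive := fun _ => Bool) (dp_fi_4 j u) (dp_fi_5 j u) (Nat.ble (nat_lit 13) j)
noncomputable def dp_fi_7 (j u : ℕ) : Bool :=
  Bool.rec (motive := fun _ => Bool) (lS MG [T_gi, T_b, T_b, T_f, T_b, T_f, T_g, T_f, T_gi, T_fi, T_bi] M (Nat.sub (T_fi u) (Nat.mod (T_fi u) M)) (nat_lit 40) (Nat.mod (T_fi u) M) u) (lS MG [T_n, T_fi, T_ni] M (Nat.sub (T_fi u) (Nat.mod (T_fi u) M)) (nat_lit 40) (Nat.mod (T_fi u) M) u) (Nat.ble (nat_lit 17) j)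
noncomputable def dp_fi_8 (j u : ℕ) : Bool :=
  Bool.rec (motive := fun _ => Bool) (lF [T_bi, T_fi, T_bi, T_bi, T_g, T_f, T_b, T_f, T_g, T_fi, T_gi] M (Nat.sub (T_fi u) (Nat.mod (T_fi u) M)) (Nat.mod (T_fi u) M) u) (dp_fi_7 j u) (Nat.ble (nat_lit 16) j)
noncomputable def dp_fi_9 (j u : ℕ) : Bool :=
  Bool.rec (motive := fun _ => Bool) (lS MG [T_b, T_f, T_gi, T_bi, T_fi, T_b, T_gi, T_fi, T_gi, T_f, T_bi] M (Nat.sub (T_fi u) (Nat.mod (T_fi u) M)) (nat_lit 40) (Nat.mod (T_fi u) M) u) (lF [T_bi, T_fi, T_gi, T_b, T_b, T_f, T_b, T_f, T_g, T_f, T_gi] M (Nat.sub (T_fi u) (Nat.mod (T_fi u) M)) (Nat.mod (T_fi u) M) u) (Nat.ble (nat_lit 20) j)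
noncomputable def dp_fi_10 (j u : ℕ) : Bool :=
  Bool.rec (motive := fun _ => Bool) (lF [T_gi, T_b, T_b, T_f, T_b, T_f, T_g, T_f, T_gi, T_fi, T_bi] M (Nat.sub (T_fi u) (Nat.mod (T_fi u) M)) (Nat.mod (T_fi u) M) u) (dp_fi_9 j u) (Nat.ble (nat_lit 19) j)
noncomputable def dp_fi_11 (j u : ℕ) : Bool :=
  Bool.rec (motive := fun _ => Bool) (dp_fi_8 j u) (dp_fi_10 j u) (Nat.ble (nat_lit 18) j)
noncomputable def dp_fi_12 (j u : ℕ) : Bool :=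
  Bool.rec (motive := fun _ => Bool) (dp_fi_6 j u) (dp_fi_11 j u) (Nat.ble (nat_lit 15) j)
noncomputable def dp_fi_13 (j u : ℕ) : Bool :=
  Bool.rec (motive := fun _ => Bool) (lS MG [T_bi, T_fi, T_bi, T_f, T_b, T_b, T_f, T_b, T_b, T_f, T_bi] M (Nat.sub (T_fi u) (Nat.mod (T_fi u) M)) (nat_lit 40) (Nat.mod (T_fi u) M) u) (lF [T_bi, T_f, T_b, T_b, T_f, T_b, T_b, T_f, T_bi, T_fi, T_bi] M (Nat.sub (T_fi u) (Nat.mod (T_fi u) M)) (Nat.mod (T_fi u) M) u) (Nat.ble (nat_lit 23) j)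
noncomputable def dp_fi_14 (j u : ℕ) : Bool :=
  Bool.rec (motive := fun _ => Bool) (lS MG [T_g, T_f, T_g, T_bi, T_f, T_b, T_g, T_fi, T_bi, T_f, T_b] M (Nat.sub (T_fi u) (Nat.mod (T_fi u) M)) (nat_lit 40) (Nat.mod (T_fi u) M) u) (dp_fi_13 j u) (Nat.ble (nat_lit 22) j)
noncomputable def dp_fi_15 (j u : ℕ) : Bool :=
  Bool.rec (motive := fun _ => Bool) (lS MG [T_bi, T_bi, T_g, T_f, T_b, T_f, T_g, T_fi, T_gi, T_fi, T_bi] M (Nat.sub (T_fi u) (Nat.mod (T_fi u) M)) (nat_lit 40) (Nat.mod (T_fi u) M) u) (lS MG [T_b, T_gi, T_fi, T_gi, T_f, T_bi, T_fi, T_b, T_f, T_gi, T_bi] M (Nat.sub (T_fi u) (Nat.mod (T_fi u) M)) (nat_lit 40) (Nat.mod (T_fi u) M) u) (Nat.ble (nat_lit 25) j)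
noncomputable def dp_fi_16 (j u : ℕ) : Bool :=
  Bool.rec (motive := fun _ => Bool) (lS MG [T_bi, T_bi, T_fi, T_bi, T_bi, T_fi, T_b, T_f, T_b, T_f, T_b] M (Nat.sub (T_fi u) (Nat.mod (T_fi u) M)) (nat_lit 40) (Nat.mod (T_fi u) M) u) (lF [T_bi, T_bi, T_g, T_f, T_b, T_f, T_g, T_fi, T_gi, T_fi, T_bi] M (Nat.sub (T_fi u) (Nat.mod (T_fi u) M)) (Nat.mod (T_fi u) M) u) (Nat.ble (nat_lit 27) j)
noncomputable def dp_fi_17 (j u : ℕ) : Bool :=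
  Bool.rec (motive := fun _ => Bool) (dp_fi_15 j u) (dp_fi_16 j u) (Nat.ble (nat_lit 26) j)
noncomputable def dp_fi_18 (j u : ℕ) : Bool :=
  Bool.rec (motive := fun _ => Bool) (dp_fi_14 j u) (dp_fi_17 j u) (Nat.ble (nat_lit 24) j)
noncomputable def dp_fi_19 (j u : ℕ) : Bool :=
  Bool.rec (motive := fun _ => Bool) (lF [T_bi, T_fi, T_bi, T_f, T_b, T_b, T_f, T_b, T_b, T_f, T_bi] M (Nat.sub (T_fi u) (Nat.mod (T_fi u) M)) (Nat.mod (T_fi u) M) u) (lS MG [T_bi, T_f, T_b, T_b, T_f, T_b, T_b, T_f, T_bi, T_fi, T_bi] M (Nat.sub (T_fi u) (Nat.mod (T_fi u) M)) (nat_lit 40) (Nat.mod (T_fi u) M) u) (Nat.ble (nat_lit 29) j)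
noncomputable def dp_fi_20 (j u : ℕ) : Bool :=
  Bool.rec (motive := fun _ => Bool) (lS MG [T_bi, T_bi, T_fi, T_b, T_f, T_b, T_f, T_b, T_fi, T_bi, T_bi] M (Nat.sub (T_fi u) (Nat.mod (T_fi u) M)) (nat_lit 40) (Nat.mod (T_fi u) M) u) (lS MG [T_b, T_f, T_b, T_f, T_b, T_fi, T_bi, T_bi, T_fi, T_bi, T_bi] M (Nat.sub (T_fi u) (Nat.mod (T_fi u) M)) (nat_lit 40) (Nat.mod (T_fi u) M) u) (Nat.ble (nat_lit 32) j)
noncomputable def dp_fi_21 (j u : ℕ) : Bool :=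
  Bool.rec (motive := fun _ => Bool) (lF [T_bi, T_bi, T_fi, T_b, T_f, T_b, T_f, T_b, T_fi, T_bi, T_bi] M (Nat.sub (T_fi u) (Nat.mod (T_fi u) M)) (Nat.mod (T_fi u) M) u) (dp_fi_20 j u) (Nat.ble (nat_lit 31) j)
noncomputable def dp_fi_22 (j u : ℕ) : Bool :=
  Bool.rec (motive := fun _ => Bool) (dp_fi_19 j u) (dp_fi_21 j u) (Nat.ble (nat_lit 30) j)
noncomputable def dp_fi_23 (j u : ℕ) : Bool :=
  Bool.rec (motive := fun _ => Bool) (lF [T_bi, T_bi, T_fi, T_bi, T_bi, T_fi, T_b, T_f, T_b, T_f, T_b] M (Nat.sub (T_fi u) (Nat.mod (T_fi u) M)) (Nat.mod (T_fi u) M) u) (lF [T_b, T_f, T_gi, T_bi, T_fi, T_b, T_gi, T_fi, T_gi, T_f, T_bi] M (Nat.sub (T_fi u) (Nat.mod (T_fi u) M)) (Nat.mod (T_fi u) M) u) (Nat.ble (nat_lit 35) j)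
noncomputable def dp_fi_24 (j u : ℕ) : Bool :=
  Bool.rec (motive := fun _ => Bool) (lF [T_g, T_f, T_g, T_bi, T_f, T_b, T_g, T_fi, T_bi, T_f, T_b] M (Nat.sub (T_fi u) (Nat.mod (T_fi u) M)) (Nat.mod (T_fi u) M) u) (dp_fi_23 j u) (Nat.ble (nat_lit 34) j)
noncomputable def dp_fi_25 (j u : ℕ) : Bool :=
  Bool.rec (motive := fun _ => Bool) (lF [T_b, T_f, T_b, T_f, T_b, T_fi, T_bi, T_bi, T_fi, T_bi, T_bi] M (Nat.sub (T_fi u) (Nat.mod (T_fi u) M)) (Nat.mod (T_fi u) M) u) (lF [T_bi, T_f, T_b, T_fi, T_g, T_f, T_g, T_bi, T_f, T_b, T_g] M (Nat.sub (T_fi u) (Nat.mod (T_fi u) M)) (Nat.mod (T_fi u) M) u) (Nat.ble (nat_lit 37) j)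
noncomputable def dp_fi_26 (j u : ℕ) : Bool :=
  Bool.rec (motive := fun _ => Bool) (lS MG [T_bi, T_f, T_b, T_fi, T_g, T_f, T_g, T_bi, T_f, T_b, T_g] M (Nat.sub (T_fi u) (Nat.mod (T_fi u) M)) (nat_lit 40) (Nat.mod (T_fi u) M) u) (lS MG [T_fi, T_fi] M (Nat.sub (T_fi u) (Nat.mod (T_fi u) M)) (nat_lit 40) (Nat.mod (T_fi u) M) u) (Nat.ble (nat_lit 39) j)
noncomputable def dp_fi_27 (j u : ℕ) : Bool :=
  Bool.rec (motive := fun _ => Bool) (dp_fi_25 j u) (dp_fi_26 j u) (Nat.ble (nat_lit 38) j)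
noncomputable def dp_fi_28 (j u : ℕ) : Bool :=
  Bool.rec (motive := fun _ => Bool) (dp_fi_24 j u) (dp_fi_27 j u) (Nat.ble (nat_lit 36) j)
noncomputable def dp_fi_29 (j u : ℕ) : Bool :=
  Bool.rec (motive := fun _ => Bool) (dp_fi_22 j u) (dp_fi_28 j u) (Nat.ble (nat_lit 33) j)
noncomputable def dp_fi_30 (j u : ℕ) : Bool :=
  Bool.rec (motive := fun _ => Bool) (dp_fi_18 j u) (dp_fi_29 j u) (Nat.ble (nat_lit 28) j)
noncomputable def dp_fi_31 (j u : ℕ) : Bool :=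
  Bool.rec (motive := fun _ => Bool) (dp_fi_12 j u) (dp_fi_30 j u) (Nat.ble (nat_lit 21) j)
noncomputable def dp_fi_32 (j u : ℕ) : Bool :=
  Bool.rec (motive := fun _ => Bool) (dp_fi_3 j u) (dp_fi_31 j u) (Nat.ble (nat_lit 11) j)
noncomputable def dp_fi_33 (j u : ℕ) : Bool :=
  Bool.rec (motive := fun _ => Bool) (lF3 T_n T_fi T_ni M (Nat.sub (T_fi u) (Nat.mod (T_fi u) M)) (Nat.mod (T_fi u) M) u) (dp_fi_32 j u) (Nat.ble (nat_lit 6) j)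
noncomputable def dp_fi_34 (j u : ℕ) : Bool :=
  Bool.rec (motive := fun _ => Bool) (lF3 T_ni T_fi T_n M (Nat.sub (T_fi u) (Nat.mod (T_fi u) M)) (Nat.mod (T_fi u) M) u) (dp_fi_33 j u) (Nat.ble (nat_lit 5) j)
noncomputable def dp_fi_35 (j u : ℕ) : Bool :=
  Bool.rec (motive := fun _ => Bool) (Bool.rec (motive := fun _ => Bool) (lDef P (nat_lit 4) u (Nat.mod (T_fi u) M)) (lF [T_fi, T_fi] M (Nat.sub (T_fi u) (Nat.mod (T_fi u) M)) (Nat.mod (T_fi u) M) u) (Nat.ble (nat_lit 3) j)) (dp_fi_34 j u) (Nat.ble (nat_lit 4) j)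
noncomputable def disp_fi (j u : ℕ) : Bool :=
  Bool.rec (motive := fun _ => Bool) (Bool.rec (motive := fun _ => Bool) (lF1 T_f M (Nat.sub (T_fi u) (Nat.mod (T_fi u) M)) (Nat.mod (T_fi u) M) u) (lDef P (nat_lit 5) (Nat.mod (T_fi u) M) u) (Nat.ble (nat_lit 1) j)) (dp_fi_35 j u) (Nat.ble (nat_lit 2) j)
noncomputable def chk_fi (j u : ℕ) : Bool :=
  Bool.rec (motive := fun _ => Bool) (disp_fi j u) (Nat.ble (Nat.succ (MG u)) A) (Nat.ble A (T_fi u))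
noncomputable def dp_n_0 (j u : ℕ) : Bool :=
  Bool.rec (motive := fun _ => Bool) (lF3 T_f T_ni T_f M (Nat.sub (T_n u) (Nat.mod (T_n u) M)) (Nat.mod (T_n u) M) u) (lF3 T_fi T_ni T_fi M (Nat.sub (T_n u) (Nat.mod (T_n u) M)) (Nat.mod (T_n u) M) u) (Nat.ble (nat_lit 6) j)
noncomputable def dp_n_1 (j u : ℕ) : Bool :=
  Bool.rec (motive := fun _ => Bool) (lS MG [T_f, T_ni, T_f] M (Nat.sub (T_n u) (Nat.mod (T_n u) M)) (nat_lit 40) (Nat.mod (T_n u) M) u) (lS MG [T_fi, T_ni, T_fi] M (Nat.sub (T_n u) (Nat.mod (T_n u) M)) (nat_lit 40) (Nat.mod (T_n u) M) u) (Nat.ble (nat_lit 13) j)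
noncomputable def dp_n_2 (j u : ℕ) : Bool :=
  Bool.rec (motive := fun _ => Bool) (lS MG [T_b, T_ni, T_bi] M (Nat.sub (T_n u) (Nat.mod (T_n u) M)) (nat_lit 40) (Nat.mod (T_n u) M) u) (lS MG [T_zi, T_n] M (Nat.sub (T_n u) (Nat.mod (T_n u) M)) (nat_lit 40) (Nat.mod (T_n u) M) u) (Nat.ble (nat_lit 16) j)
noncomputable def dp_n_3 (j u : ℕ) : Bool :=
  Bool.rec (motive := fun _ => Bool) (lS MG [T_bi, T_ni, T_b] M (Nat.sub (T_n u) (Nat.mod (T_n u) M)) (nat_lit 40) (Nat.mod (T_n u) M) u) (dp_n_2 j u) (Nat.ble (nat_lit 15) j)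
noncomputable def dp_n_4 (j u : ℕ) : Bool :=
  Bool.rec (motive := fun _ => Bool) (dp_n_1 j u) (dp_n_3 j u) (Nat.ble (nat_lit 14) j)
noncomputable def dp_n_5 (j u : ℕ) : Bool :=
  Bool.rec (motive := fun _ => Bool) (lS MG [T_g, T_n, T_g, T_n, T_g] M (Nat.sub (T_n u) (Nat.mod (T_n u) M)) (nat_lit 40) (Nat.mod (T_n u) M) u) (dp_n_4 j u) (Nat.ble (nat_lit 12) j)
noncomputable def dp_n_6 (j u : ℕ) : Bool :=
  Bool.rec (motive := fun _ => Bool) (lS MG [T_ni] M (Nat.sub (T_n u) (Nat.mod (T_n u) M)) (nat_lit 40) (Nat.mod (T_n u) M) u) (dp_n_5 j u) (Nat.ble (nat_lit 11) j)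
noncomputable def dp_n_7 (j u : ℕ) : Bool :=
  Bool.rec (motive := fun _ => Bool) (lF [T_g, T_n, T_g, T_n, T_g] M (Nat.sub (T_n u) (Nat.mod (T_n u) M)) (Nat.mod (T_n u) M) u) (dp_n_6 j u) (Nat.ble (nat_lit 10) j)
noncomputable def dp_n_8 (j u : ℕ) : Bool :=
  Bool.rec (motive := fun _ => Bool) (lF3 T_bi T_ni T_b M (Nat.sub (T_n u) (Nat.mod (T_n u) M)) (Nat.mod (T_n u) M) u) (dp_n_7 j u) (Nat.ble (nat_lit 9) j)
noncomputable def dp_n_9 (j u : ℕ) : Bool :=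
  Bool.rec (motive := fun _ => Bool) (lF3 T_b T_ni T_bi M (Nat.sub (T_n u) (Nat.mod (T_n u) M)) (Nat.mod (T_n u) M) u) (dp_n_8 j u) (Nat.ble (nat_lit 8) j)
noncomputable def dp_n_10 (j u : ℕ) : Bool :=
  Bool.rec (motive := fun _ => Bool) (dp_n_0 j u) (dp_n_9 j u) (Nat.ble (nat_lit 7) j)
noncomputable def disp_n (j u : ℕ) : Bool :=
  Bool.rec (motive := fun _ => Bool) (Bool.rec (motive := fun _ => Bool) (lF1 T_ni M (Nat.sub (T_n u) (Nat.mod (T_n u) M)) (Nat.mod (T_n u) M) u) (lDef P (nat_lit 6) (Nat.mod (T_n u) M) u) (Nat.ble (nat_lit 1) j)) (Bool.rec (motive := fun _ => Bool) (Bool.rec (motive := fun _ => Bool) (lDef P (nat_lit 7) u (Nat.mod (T_n u) M)) (Bool.rec (motive := fun _ => Bool) (lF [T_zi, T_n] M (Nat.sub (T_n u) (Nat.mod (T_n u) M)) (Nat.mod (T_n u) M) u) (lF [T_n, T_zi] M (Nat.sub (T_n u) (Nat.mod (T_n u) M)) (Nat.mod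 (T_n u) M) u) (Nat.ble (nat_lit 4) j)) (Nat.ble (nat_lit 3) j)) (dp_n_10 j u) (Nat.ble (nat_lit 5) j)) (Nat.ble (nat_lit 2) j)
noncomputable def chk_n (j u : ℕ) : Bool :=
  Bool.rec (motive := fun _ => Bool) (disp_n j u) (Nat.ble (Nat.succ (MG u)) A) (Nat.ble A (T_n u))
noncomputable def dp_ni_0 (j u : ℕ) : Bool :=
  Bool.rec (motive := fun _ => Bool) (lS MG [T_gi, T_ni, T_gi, T_ni, T_gi] M (Nat.sub (T_ni u) (Nat.mod (T_ni u) M)) (nat_lit 40) (Nat.mod (T_ni u) M) u) (lS MG [T_f, T_n, T_f] M (Nat.sub (T_ni u) (Nat.mod (T_ni u) M)) (nat_lit 40) (Nat.mod (T_ni u) M) u) (Nat.ble (nat_lit 12) j)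
noncomputable def dp_ni_1 (j u : ℕ) : Bool :=
  Bool.rec (motive := fun _ => Bool) (lS MG [T_z, T_ni] M (Nat.sub (T_ni u) (Nat.mod (T_ni u) M)) (nat_lit 40) (Nat.mod (T_ni u) M) u) (lS MG [T_ni, T_z] M (Nat.sub (T_ni u) (Nat.mod (T_ni u) M)) (nat_lit 40) (Nat.mod (T_ni u) M) u) (Nat.ble (nat_lit 17) j)
noncomputable def dp_ni_2 (j u : ℕ) : Bool :=
  Bool.rec (motive := fun _ => Bool) (lS MG [T_b, T_n, T_bi] M (Nat.sub (T_ni u) (Nat.mod (T_ni u) M)) (nat_lit 40) (Nat.mod (T_ni u) M) u) (dp_ni_1 j u) (Nat.ble (nat_lit 16) j)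
noncomputable def dp_ni_3 (j u : ℕ) : Bool :=
  Bool.rec (motive := fun _ => Bool) (lS MG [T_bi, T_n, T_b] M (Nat.sub (T_ni u) (Nat.mod (T_ni u) M)) (nat_lit 40) (Nat.mod (T_ni u) M) u) (dp_ni_2 j u) (Nat.ble (nat_lit 15) j)
noncomputable def dp_ni_4 (j u : ℕ) : Bool :=
  Bool.rec (motive := fun _ => Bool) (lS MG [T_fi, T_n, T_fi] M (Nat.sub (T_ni u) (Nat.mod (T_ni u) M)) (nat_lit 40) (Nat.mod (T_ni u) M) u) (dp_ni_3 j u) (Nat.ble (nat_lit 14) j)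
noncomputable def dp_ni_5 (j u : ℕ) : Bool :=
  Bool.rec (motive := fun _ => Bool) (dp_ni_0 j u) (dp_ni_4 j u) (Nat.ble (nat_lit 13) j)
noncomputable def dp_ni_6 (j u : ℕ) : Bool :=
  Bool.rec (motive := fun _ => Bool) (lS MG [T_n] M (Nat.sub (T_ni u) (Nat.mod (T_ni u) M)) (nat_lit 40) (Nat.mod (T_ni u) M) u) (dp_ni_5 j u) (Nat.ble (nat_lit 11) j)
noncomputable def dp_ni_7 (j u : ℕ) : Bool :=
  Bool.rec (motive := fun _ => Bool) (lF [T_gi, T_ni, T_gi, T_ni, T_gi] M (Nat.sub (T_ni u) (Nat.mod (T_ni u) M)) (Nat.mod (T_ni u) M) u) (dp_ni_6 j u) (Nat.ble (nat_lit 10) j)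
noncomputable def dp_ni_8 (j u : ℕ) : Bool :=
  Bool.rec (motive := fun _ => Bool) (lF3 T_bi T_n T_b M (Nat.sub (T_ni u) (Nat.mod (T_ni u) M)) (Nat.mod (T_ni u) M) u) (dp_ni_7 j u) (Nat.ble (nat_lit 9) j)
noncomputable def dp_ni_9 (j u : ℕ) : Bool :=
  Bool.rec (motive := fun _ => Bool) (lF3 T_b T_n T_bi M (Nat.sub (T_ni u) (Nat.mod (T_ni u) M)) (Nat.mod (T_ni u) M) u) (dp_ni_8 j u) (Nat.ble (nat_lit 8) j)
noncomputable def dp_ni_10 (j u : ℕ) : Bool :=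
  Bool.rec (motive := fun _ => Bool) (Bool.rec (motive := fun _ => Bool) (lF3 T_f T_n T_f M (Nat.sub (T_ni u) (Nat.mod (T_ni u) M)) (Nat.mod (T_ni u) M) u) (lF3 T_fi T_n T_fi M (Nat.sub (T_ni u) (Nat.mod (T_ni u) M)) (Nat.mod (T_ni u) M) u) (Nat.ble (nat_lit 6) j)) (dp_ni_9 j u) (Nat.ble (nat_lit 7) j)
noncomputable def disp_ni (j u : ℕ) : Bool :=
  Bool.rec (motive := fun _ => Bool) (Bool.rec (motive := fun _ => Bool) (lF1 T_n M (Nat.sub (T_ni u) (Nat.mod (T_ni u) M)) (Nat.mod (T_ni u) M) u) (lDef P (nat_lit 6) u (Nat.mod (T_ni u) M)) (Nat.ble (nat_lit 1) j)) (Bool.rec (motive := fun _ => Bool) (Bool.rec (motive := fun _ => Bool) (lDef P (nat_lit 7) (Nat.mod (T_ni u) M) u) (Bool.rec (motive := fun _ => Bool) (lF [T_z, T_ni] M (Nat.sub (T_ni u) (Nat.mod (T_ni u) M)) (Nat.mod (T_ni u) M) u) (lF [T_ni, T_z] M (Nat.sub (T_ni u) (Nat.mod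 (T_ni u) M)) (Nat.mod (T_ni u) M) u) (Nat.ble (nat_lit 4) j)) (Nat.ble (nat_lit 3) j)) (dp_ni_10 j u) (Nat.ble (nat_lit 5) j)) (Nat.ble (nat_lit 2) j)
noncomputable def chk_ni (j u : ℕ) : Bool :=
  Bool.rec (motive := fun _ => Bool) (disp_ni j u) (Nat.ble (Nat.succ (MG u)) A) (Nat.ble A (T_ni u))
noncomputable def dp_z_0 (j u : ℕ) : Bool :=
  Bool.rec (motive := fun _ => Bool) (lDef P (nat_lit 8) (Nat.mod (T_z u) M) u) (lS MG [T_gi, T_zi, T_g] M (Nat.sub (T_z u) (Nat.mod (T_z u) M)) (nat_lit 40) (Nat.mod (T_z u) M) u) (Nat.ble (nat_lit 6) j)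
noncomputable def dp_z_1 (j u : ℕ) : Bool :=
  Bool.rec (motive := fun _ => Bool) (lDef P (nat_lit 9) u (Nat.mod (T_z u) M)) (lF3 T_z T_z T_z M (Nat.sub (T_z u) (Nat.mod (T_z u) M)) (Nat.mod (T_z u) M) u) (Nat.ble (nat_lit 10) j)
noncomputable def dp_z_2 (j u : ℕ) : Bool :=
  Bool.rec (motive := fun _ => Bool) (lS MG [T_ni, T_ni] M (Nat.sub (T_z u) (Nat.mod (T_z u) M)) (nat_lit 40) (Nat.mod (T_z u) M) u) (dp_z_1 j u) (Nat.ble (nat_lit 9) j)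
noncomputable def dp_z_3 (j u : ℕ) : Bool :=
  Bool.rec (motive := fun _ => Bool) (lS MG [T_g, T_zi, T_gi] M (Nat.sub (T_z u) (Nat.mod (T_z u) M)) (nat_lit 40) (Nat.mod (T_z u) M) u) (dp_z_2 j u) (Nat.ble (nat_lit 8) j)
noncomputable def dp_z_4 (j u : ℕ) : Bool :=
  Bool.rec (motive := fun _ => Bool) (dp_z_0 j u) (dp_z_3 j u) (Nat.ble (nat_lit 7) j)
noncomputable def dp_z_5 (j u : ℕ) : Bool :=
  Bool.rec (motive := fun _ => Bool) (lS MG [T_zi] M (Nat.sub (T_z u) (Nat.mod (T_z u) M)) (nat_lit 40) (Nat.mod (T_z u) M) u) (dp_z_4 j u) (Nat.ble (nat_lit 5) j)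
noncomputable def dp_z_6 (j u : ℕ) : Bool :=
  Bool.rec (motive := fun _ => Bool) (lF3 T_gi T_zi T_g M (Nat.sub (T_z u) (Nat.mod (T_z u) M)) (Nat.mod (T_z u) M) u) (dp_z_5 j u) (Nat.ble (nat_lit 4) j)
noncomputable def dp_z_7 (j u : ℕ) : Bool :=
  Bool.rec (motive := fun _ => Bool) (lF3 T_g T_zi T_gi M (Nat.sub (T_z u) (Nat.mod (T_z u) M)) (Nat.mod (T_z u) M) u) (dp_z_6 j u) (Nat.ble (nat_lit 3) j)
noncomputable def dp_z_8 (j u : ℕ) : Bool :=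
  Bool.rec (motive := fun _ => Bool) (lF [T_ni, T_ni] M (Nat.sub (T_z u) (Nat.mod (T_z u) M)) (Nat.mod (T_z u) M) u) (dp_z_7 j u) (Nat.ble (nat_lit 2) j)
noncomputable def disp_z (j u : ℕ) : Bool :=
  Bool.rec (motive := fun _ => Bool) (lF1 T_zi M (Nat.sub (T_z u) (Nat.mod (T_z u) M)) (Nat.mod (T_z u) M) u) (dp_z_8 j u) (Nat.ble (nat_lit 1) j)
noncomputable def chk_z (j u : ℕ) : Bool :=
  Bool.rec (motive := fun _ => Bool) (disp_z j u) (Nat.ble (Nat.succ (MG u)) A) (Nat.ble A (T_z u))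
noncomputable def dp_zi_0 (j u : ℕ) : Bool :=
  Bool.rec (motive := fun _ => Bool) (lS MG [T_g, T_z, T_gi] M (Nat.sub (T_zi u) (Nat.mod (T_zi u) M)) (nat_lit 40) (Nat.mod (T_zi u) M) u) (lDef P (nat_lit 8) u (Nat.mod (T_zi u) M)) (Nat.ble (nat_lit 6) j)
noncomputable def dp_zi_1 (j u : ℕ) : Bool :=
  Bool.rec (motive := fun _ => Bool) (lDef P (nat_lit 9) (Nat.mod (T_zi u) M) u) (lF3 T_zi T_zi T_zi M (Nat.sub (T_zi u) (Nat.mod (T_zi u) M)) (Nat.mod (T_zi u) M) u) (Nat.ble (nat_lit 10) j)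
noncomputable def dp_zi_2 (j u : ℕ) : Bool :=
  Bool.rec (motive := fun _ => Bool) (lS MG [T_n, T_n] M (Nat.sub (T_zi u) (Nat.mod (T_zi u) M)) (nat_lit 40) (Nat.mod (T_zi u) M) u) (dp_zi_1 j u) (Nat.ble (nat_lit 9) j)
noncomputable def dp_zi_3 (j u : ℕ) : Bool :=
  Bool.rec (motive := fun _ => Bool) (lS MG [T_gi, T_z, T_g] M (Nat.sub (T_zi u) (Nat.mod (T_zi u) M)) (nat_lit 40) (Nat.mod (T_zi u) M) u) (dp_zi_2 j u) (Nat.ble (nat_lit 8) j)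
noncomputable def dp_zi_4 (j u : ℕ) : Bool :=
  Bool.rec (motive := fun _ => Bool) (dp_zi_0 j u) (dp_zi_3 j u) (Nat.ble (nat_lit 7) j)
noncomputable def dp_zi_5 (j u : ℕ) : Bool :=
  Bool.rec (motive := fun _ => Bool) (lS MG [T_z] M (Nat.sub (T_zi u) (Nat.mod (T_zi u) M)) (nat_lit 40) (Nat.mod (T_zi u) M) u) (dp_zi_4 j u) (Nat.ble (nat_lit 5) j)
noncomputable def dp_zi_6 (j u : ℕ) : Bool :=
  Bool.rec (motive := fun _ => Bool) (lF3 T_g T_z T_gi M (Nat.sub (T_zi u) (Nat.mod (T_zi u) M)) (Nat.mod (T_zi u) M) u) (Bool.rec (motive := fun _ => Bool) (lF3 T_gi T_z T_g M (Nat.sub (T_zi u) (Nat.mod (T_zi u) M)) (Nat.mod (T_zi u) M) u) (dp_zi_5 j u) (Nat.ble (nat_lit 4) j)) (Nat.ble (nat_lit 3) j)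
noncomputable def disp_zi (j u : ℕ) : Bool :=
  Bool.rec (motive := fun _ => Bool) (lF1 T_z M (Nat.sub (T_zi u) (Nat.mod (T_zi u) M)) (Nat.mod (T_zi u) M) u) (Bool.rec (motive := fun _ => Bool) (lF [T_n, T_n] M (Nat.sub (T_zi u) (Nat.mod (T_zi u) M)) (Nat.mod (T_zi u) M) u) (dp_zi_6 j u) (Nat.ble (nat_lit 2) j)) (Nat.ble (nat_lit 1) j)
noncomputable def chk_zi (j u : ℕ) : Bool :=
  Bool.rec (motive := fun _ => Bool) (disp_zi j u) (Nat.ble (Nat.succ (MG u)) A) (Nat.ble A (T_zi u))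
noncomputable def dM_0 (j z1 z2 u : ℕ) : Bool :=
  Bool.rec (motive := fun _ => Bool) (Bool.rec (motive := fun _ => Bool) (mCo MG T_z M (Nat.sub (MG u) (Nat.mod (MG u) M)) (nat_lit 40) z1 z2 u (Nat.mod (MG u) M)) (mCo MG T_b M (Nat.sub (MG u) (Nat.mod (MG u) M)) (nat_lit 40) z1 z2 u (Nat.mod (MG u) M)) (Nat.ble (nat_lit 1) j)) (Bool.rec (motive := fun _ => Bool) (mCo MG T_bi M (Nat.sub (MG u) (Nat.mod (MG u) M)) (nat_lit 40) z1 z2 u (Nat.mod (MG u) M)) (Bool.rec (motive := fun _ => Bool) (mCo MG T_g M (Nat.sub (MG u) (Nat.mod (MG u) M)) (nat_lit 40) z1 z2 u (Nat.mod (MG u) M)) (mCo MG T_gi M (Nat.sub (MG u) (Nat.mod (MG u) M)) (nat_lit 40) z1 z2 u (Nat.mod (MG u) M)) (Nat.ble (nat_lit 4) j)) (Nat.ble (nat_lit 3) j)) (Nat.ble (nat_lit 2) j)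
noncomputable def dM_1 (j z1 z2 u : ℕ) : Bool :=
  Bool.rec (motive := fun _ => Bool) (Bool.rec (motive := fun _ => Bool) (mCo MG T_n M (Nat.sub (MG u) (Nat.mod (MG u) M)) (nat_lit 40) z1 z2 u (Nat.mod (MG u) M)) (mCo MG T_ni M (Nat.sub (MG u) (Nat.mod (MG u) M)) (nat_lit 40) z1 z2 u (Nat.mod (MG u) M)) (Nat.ble (nat_lit 6) j)) (Bool.rec (motive := fun _ => Bool) (mCo MG T_f M (Nat.sub (MG u) (Nat.mod (MG u) M)) (nat_lit 40) z1 z2 u (Nat.mod (MG u) M)) (mCo MG T_fi M (Nat.sub (MG u) (Nat.mod (MG u) M)) (nat_lit 40) z1 z2 u (Nat.mod (MG u) M)) (Nat.ble (nat_lit 8) j)) (Nat.ble (nat_lit 7) j)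
noncomputable def dM_2 (j z1 z2 u : ℕ) : Bool :=
  Bool.rec (motive := fun _ => Bool) (Bool.rec (motive := fun _ => Bool) (mRel MG [T_f, T_ni] [T_ni, T_fi] M (Nat.sub (MG u) (Nat.mod (MG u) M)) (nat_lit 40) z1 u (Nat.mod (MG u) M)) (Bool.rec (motive := fun _ => Bool) (mRel MG [T_bi, T_ni] [T_ni, T_bi] M (Nat.sub (MG u) (Nat.mod (MG u) M)) (nat_lit 40) z1 u (Nat.mod (MG u) M)) (mRel MG [T_b, T_n] [T_n, T_b] M (Nat.sub (MG u) (Nat.mod (MG u) M)) (nat_lit 40) z1 u (Nat.mod (MG u) M)) (Nat.ble (nat_lit 11) j)) (Nat.ble (nat_lit 10) j)) (Bool.rec (motive := fun _ => Bool) (Bool.rec (motive := fun _ => Bool) (mRel MG [T_gi, T_b, T_g] [T_b, T_b, T_b] M (Nat.sub (MG u) (Nat.mod (MG u) M)) (nat_lit 40) z1 u (Nat.mod (MG u) M)) (mRel MG [T_gi, T_bi, T_g] [T_bi, T_bi, T_bi] M (Nat.sub (MG u) (Nat.mod (MG u) M)) (nat_lit 40) z1 u (Nat.mod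 (MG u) M)) (Nat.ble (nat_lit 13) j)) (Bool.rec (motive := fun _ => Bool) (mRel MG [T_bi, T_n, T_b] [T_n] M (Nat.sub (MG u) (Nat.mod (MG u) M)) (nat_lit 40) z1 u (Nat.mod (MG u) M)) (Bool.rec (motive := fun _ => Bool) (mRel MG [T_bi, T_ni, T_b] [T_ni] M (Nat.sub (MG u) (Nat.mod (MG u) M)) (nat_lit 40) z1 u (Nat.mod (MG u) M)) (mRel MG [T_b, T_n, T_bi] [T_n] M (Nat.sub (MG u) (Nat.mod (MG u) M)) (nat_lit 40) z1 u (Nat.mod (MG u) M)) (Nat.ble (nat_lit 16) j)) (Nat.ble (nat_lit 15) j)) (Nat.ble (nat_lit 14) j)) (Nat.ble (nat_lit 12) j)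
noncomputable def dM_3 (j z1 z2 u : ℕ) : Bool :=
  Bool.rec (motive := fun _ => Bool) (Bool.rec (motive := fun _ => Bool) (Bool.rec (motive := fun _ => Bool) (mRel MG [T_g, T_b, T_b, T_b, T_gi] [T_b] M (Nat.sub (MG u) (Nat.mod (MG u) M)) (nat_lit 40) z1 u (Nat.mod (MG u) M)) (mRel MG [T_b, T_ni, T_bi] [T_ni] M (Nat.sub (MG u) (Nat.mod (MG u) M)) (nat_lit 40) z1 u (Nat.mod (MG u) M)) (Nat.ble (nat_lit 18) j)) (Bool.rec (motive := fun _ => Bool) (mRel MG [T_g, T_b, T_b, T_b] [T_b, T_g] M (Nat.sub (MG u) (Nat.mod (MG u) M)) (nat_lit 40) z1 u (Nat.mod (MG u) M)) (mRel MG [T_bi, T_gi] [T_b, T_b, T_gi, T_bi] M (Nat.sub (MG u) (Nat.mod (MG u) M)) (nat_lit 40) z1 u (Nat.mod (MG u) M)) (Nat.ble (nat_lit 20) j)) (Nat.ble (nat_lit 19) j)) (Bool.rec (motive := fun _ => Bool) (Bool.rec (motive := fun _ => Bool) (mRel MG [T_g, T_bi, T_bi, T_bi,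 T_gi] [T_bi] M (Nat.sub (MG u) (Nat.mod (MG u) M)) (nat_lit 40) z1 u (Nat.mod (MG u) M)) (mRel MG [T_f, T_ni, T_f] [T_ni] M (Nat.sub (MG u) (Nat.mod (MG u) M)) (nat_lit 40) z1 u (Nat.mod (MG u) M)) (Nat.ble (nat_lit 22) j)) (Bool.rec (motive := fun _ => Bool) (mRel MG [T_fi, T_n] [T_n, T_f] M (Nat.sub (MG u) (Nat.mod (MG u) M)) (nat_lit 40) z1 u (Nat.mod (MG u) M)) (mRel MG [T_b, T_b, T_gi, T_bi] [T_bi, T_gi] M (Nat.sub (MG u) (Nat.mod (MG u) M)) (nat_lit 40) z1 u (Nat.mod (MG u) M)) (Nat.ble (nat_lit 24) j)) (Nat.ble (nat_lit 23) j)) (Nat.ble (nat_lit 21) j)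
noncomputable def dM_4 (j z1 z2 u : ℕ) : Bool :=
  Bool.rec (motive := fun _ => Bool) (Bool.rec (motive := fun _ => Bool) (Bool.rec (motive := fun _ => Bool) (mRel MG [T_g, T_bi, T_bi, T_bi] [T_bi, T_g] M (Nat.sub (MG u) (Nat.mod (MG u) M)) (nat_lit 40) z1 u (Nat.mod (MG u) M)) (mRel MG [T_gi, T_b] [T_b, T_b, T_b, T_gi] M (Nat.sub (MG u) (Nat.mod (MG u) M)) (nat_lit 40) z1 u (Nat.mod (MG u) M)) (Nat.ble (nat_lit 26) j)) (Bool.rec (motive := fun _ => Bool) (mRel MG [T_b, T_b, T_gi] [T_bi, T_gi, T_b] M (Nat.sub (MG u) (Nat.mod (MG u) M)) (nat_lit 40) z1 u (Nat.mod (MG u) M)) (Bool.rec (motive := fun _ => Bool) (mRel MG [T_bi, T_bi, T_gi] [T_b, T_gi, T_bi] M (Nat.sub (MG u) (Nat.mod (MG u) M)) (nat_lit 40) z1 u (Nat.mod (MG u) M)) (mRel MG [T_b, T_b, T_b, T_gi] [T_gi, T_b] M (Nat.sub (MG u) (Nat.mod (MG u) M)) (nat_lit 40) z1 u (Nat.mod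 (MG u) M)) (Nat.ble (nat_lit 29) j)) (Nat.ble (nat_lit 28) j)) (Nat.ble (nat_lit 27) j)) (Bool.rec (motive := fun _ => Bool) (Bool.rec (motive := fun _ => Bool) (mRel MG [T_b, T_b, T_b] [T_gi, T_b, T_g] M (Nat.sub (MG u) (Nat.mod (MG u) M)) (nat_lit 40) z1 u (Nat.mod (MG u) M)) (Bool.rec (motive := fun _ => Bool) (mRel MG [T_fi, T_n, T_fi] [T_n] M (Nat.sub (MG u) (Nat.mod (MG u) M)) (nat_lit 40) z1 u (Nat.mod (MG u) M)) (mRel MG [T_b, T_ni] [T_ni, T_b] M (Nat.sub (MG u) (Nat.mod (MG u) M)) (nat_lit 40) z1 u (Nat.mod (MG u) M)) (Nat.ble (nat_lit 32) j)) (Nat.ble (nat_lit 31) j)) (Bool.rec (motive := fun _ => Bool) (mRel MG [T_g, T_n, T_g, T_n, T_g] [T_ni] M (Nat.sub (MG u) (Nat.mod (MG u) M)) (nat_lit 40) z1 u (Nat.mod (MG u) M)) (Bool.rec (motive := fun _ => Bool) (mRel MG [T_gi, T_z, T_g] [T_z] M (Nat.sub (MG u) (Nat.mod (MG u)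 M)) (nat_lit 40) z1 u (Nat.mod (MG u) M)) (mRel MG [T_bi, T_n] [T_n, T_bi] M (Nat.sub (MG u) (Nat.mod (MG u) M)) (nat_lit 40) z1 u (Nat.mod (MG u) M)) (Nat.ble (nat_lit 35) j)) (Nat.ble (nat_lit 34) j)) (Nat.ble (nat_lit 33) j)) (Nat.ble (nat_lit 30) j)
noncomputable def dM_5 (j z1 z2 u : ℕ) : Bool :=
  Bool.rec (motive := fun _ => Bool) (dM_3 j z1 z2 u) (dM_4 j z1 z2 u) (Nat.ble (nat_lit 25) j)
noncomputable def dM_6 (j z1 z2 u : ℕ) : Bool :=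
  Bool.rec (motive := fun _ => Bool) (dM_2 j z1 z2 u) (dM_5 j z1 z2 u) (Nat.ble (nat_lit 17) j)
noncomputable def dM_7 (j z1 z2 u : ℕ) : Bool :=
  Bool.rec (motive := fun _ => Bool) (Bool.rec (motive := fun _ => Bool) (Bool.rec (motive := fun _ => Bool) (mRel MG [T_bi, T_bi, T_gi, T_b] [T_b, T_gi] M (Nat.sub (MG u) (Nat.mod (MG u) M)) (nat_lit 40) z1 u (Nat.mod (MG u) M)) (mRel MG [T_b, T_gi, T_bi] [T_bi, T_bi, T_gi] M (Nat.sub (MG u) (Nat.mod (MG u) M)) (nat_lit 40) z1 u (Nat.mod (MG u) M)) (Nat.ble (nat_lit 37) j)) (Bool.rec (motive := fun _ => Bool) (mRel MG [T_b, T_b] [T_bi, T_gi, T_b, T_g] M (Nat.sub (MG u) (Nat.mod (MG u) M)) (nat_lit 40) z1 u (Nat.mod (MG u) M)) (mRel MG [T_gi, T_ni, T_gi, T_ni, T_gi] [T_n] M (Nat.sub (MG u) (Nat.mod (MG u) M)) (nat_lit 40) z1 u (Nat.mod (MG u) M)) (Nat.ble (nat_lit 39) j)) (Nat.ble (nat_lit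 38) j)) (Bool.rec (motive := fun _ => Bool) (Bool.rec (motive := fun _ => Bool) (mRel MG [T_bi, T_gi, T_b, T_g] [T_b, T_b] M (Nat.sub (MG u) (Nat.mod (MG u) M)) (nat_lit 40) z1 u (Nat.mod (MG u) M)) (mRel MG [T_gi, T_bi] [T_bi, T_bi, T_bi, T_gi] M (Nat.sub (MG u) (Nat.mod (MG u) M)) (nat_lit 40) z1 u (Nat.mod (MG u) M)) (Nat.ble (nat_lit 41) j)) (Bool.rec (motive := fun _ => Bool) (mRel MG [T_bi, T_bi, T_bi, T_gi] [T_gi, T_bi] M (Nat.sub (MG u) (Nat.mod (MG u) M)) (nat_lit 40) z1 u (Nat.mod (MG u) M)) (mRel MG [T_bi, T_bi] [T_b, T_gi, T_bi, T_g] M (Nat.sub (MG u) (Nat.mod (MG u) M)) (nat_lit 40) z1 u (Nat.mod (MG u) M)) (Nat.ble (nat_lit 43) j)) (Nat.ble (nat_lit 42) j)) (Nat.ble (nat_lit 40) j)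
noncomputable def dM_8 (j z1 z2 u : ℕ) : Bool :=
  Bool.rec (motive := fun _ => Bool) (Bool.rec (motive := fun _ => Bool) (mRel MG [T_f, T_n, T_f] [T_n] M (Nat.sub (MG u) (Nat.mod (MG u) M)) (nat_lit 40) z1 u (Nat.mod (MG u) M)) (Bool.rec (motive := fun _ => Bool) (mRel MG [T_gi, T_ni, T_gi] [T_n, T_g, T_n] M (Nat.sub (MG u) (Nat.mod (MG u) M)) (nat_lit 40) z1 u (Nat.mod (MG u) M)) (mRel MG [T_bi, T_bi, T_bi] [T_gi, T_bi, T_g] M (Nat.sub (MG u) (Nat.mod (MG u) M)) (nat_lit 40) z1 u (Nat.mod (MG u) M)) (Nat.ble (nat_lit 46) j)) (Nat.ble (nat_lit 45) j)) (Bool.rec (motive := fun _ => Bool) (mCo MG T_zi M (Nat.sub (MG u) (Nat.mod (MG u) M)) (nat_lit 40) z1 z2 u (Nat.mod (MG u) M)) (Bool.rec (motive := fun _ => Bool) (mRel MG [T_n, T_g, T_n, T_g] [T_gi, T_ni] M (Nat.sub (MG u) (Nat.mod (MG u) M)) (nat_lit 40) z1 u (Nat.mod (MG u) M))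 (mRel MG [T_gi, T_b, T_g, T_bi] [T_b, T_b] M (Nat.sub (MG u) (Nat.mod (MG u) M)) (nat_lit 40) z1 u (Nat.mod (MG u) M)) (Nat.ble (nat_lit 49) j)) (Nat.ble (nat_lit 48) j)) (Nat.ble (nat_lit 47) j)
noncomputable def dM_9 (j z1 z2 u : ℕ) : Bool :=
  Bool.rec (motive := fun _ => Bool) (Bool.rec (motive := fun _ => Bool) (mRel MG [T_bi, T_bi, T_bi, T_gi, T_b] [T_gi] M (Nat.sub (MG u) (Nat.mod (MG u) M)) (nat_lit 40) z1 u (Nat.mod (MG u) M)) (Bool.rec (motive := fun _ => Bool) (mRel MG [T_b, T_gi] [T_bi, T_bi, T_gi, T_b] M (Nat.sub (MG u) (Nat.mod (MG u) M)) (nat_lit 40) z1 u (Nat.mod (MG u) M)) (mRel MG [T_fi, T_ni] [T_ni, T_f] M (Nat.sub (MG u) (Nat.mod (MG u) M)) (nat_lit 40) z1 u (Nat.mod (MG u) M)) (Nat.ble (nat_lit 52) j)) (Nat.ble (nat_lit 51) j)) (Bool.rec (motive := fun _ => Bool) (Bool.rec (motive := fun _ => Bool) (mRel MG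 [T_b, T_gi, T_bi, T_g] [T_bi, T_bi] M (Nat.sub (MG u) (Nat.mod (MG u) M)) (nat_lit 40) z1 u (Nat.mod (MG u) M)) (mRel MG [T_b, T_b, T_b, T_gi, T_bi] [T_gi] M (Nat.sub (MG u) (Nat.mod (MG u) M)) (nat_lit 40) z1 u (Nat.mod (MG u) M)) (Nat.ble (nat_lit 54) j)) (Bool.rec (motive := fun _ => Bool) (mRel MG [T_g, T_f, T_b, T_f, T_g] [T_b, T_b, T_f, T_b, T_f, T_g, T_f] M (Nat.sub (MG u) (Nat.mod (MG u) M)) (nat_lit 40) z1 u (Nat.mod (MG u) M)) (mRel MG [T_b, T_b, T_gi, T_bi, T_g] [T_bi] M (Nat.sub (MG u) (Nat.mod (MG u) M)) (nat_lit 40) z1 u (Nat.mod (MG u) M)) (Nat.ble (nat_lit 56) j)) (Nat.ble (nat_lit 55) j)) (Nat.ble (nat_lit 53) j)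
noncomputable def dM_10 (j z1 z2 u : ℕ) : Bool :=
  Bool.rec (motive := fun _ => Bool) (dM_8 j z1 z2 u) (dM_9 j z1 z2 u) (Nat.ble (nat_lit 50) j)
noncomputable def dM_11 (j z1 z2 u : ℕ) : Bool :=
  Bool.rec (motive := fun _ => Bool) (dM_7 j z1 z2 u) (dM_10 j z1 z2 u) (Nat.ble (nat_lit 44) j)
noncomputable def dM_12 (j z1 z2 u : ℕ) : Bool :=
  Bool.rec (motive := fun _ => Bool) (Bool.rec (motive := fun _ => Bool) (Bool.rec (motive := fun _ => Bool) (mRel MG [T_b, T_g, T_bi, T_bi, T_bi] [T_g] M (Nat.sub (MG u) (Nat.mod (MG u) M)) (nat_lit 40) z1 u (Nat.mod (MG u) M)) (mRel MG [T_gi] [T_bi, T_f, T_b, T_g, T_fi, T_bi, T_f, T_b, T_fi, T_g, T_f] M (Nat.sub (MG u) (Nat.mod (MG u) M)) (nat_lit 40) z1 u (Nat.mod (MG u) M)) (Nat.ble (nat_lit 58) j)) (Bool.rec (motive := fun _ => Bool) (mRel MG [T_g, T_zi] [T_zi, T_g] M (Nat.sub (MG u) (Nat.mod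 (MG u) M)) (nat_lit 40) z1 u (Nat.mod (MG u) M)) (Bool.rec (motive := fun _ => Bool) (mRel MG [T_bi, T_g] [T_g, T_bi, T_bi, T_bi] M (Nat.sub (MG u) (Nat.mod (MG u) M)) (nat_lit 40) z1 u (Nat.mod (MG u) M)) (mRel MG [T_bi, T_fi, T_gi, T_b, T_b, T_f, T_b, T_f, T_g, T_f, T_gi] [T_f] M (Nat.sub (MG u) (Nat.mod (MG u) M)) (nat_lit 40) z1 u (Nat.mod (MG u) M)) (Nat.ble (nat_lit 61) j)) (Nat.ble (nat_lit 60) j)) (Nat.ble (nat_lit 59) j)) (Bool.rec (motive := fun _ => Bool) (Bool.rec (motive := fun _ => Bool) (mRel MG [T_gi, T_ni] [T_n, T_g, T_n, T_g] M (Nat.sub (MG u) (Nat.mod (MG u) M)) (nat_lit 40) z1 u (Nat.mod (MG u) M)) (mRel MG [T_g, T_f, T_b, T_f] [T_b, T_b, T_f, T_b, T_f, T_g, T_f, T_gi] M (Nat.sub (MG u) (Nat.mod (MG u) M)) (nat_lit 40) z1 u (Nat.mod (MG u) M)) (Nat.ble (nat_lit 63) j)) (Bool.rec (motive := fun _ => Bool) (mRel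 MG [T_gi, T_bi] [T_fi, T_bi, T_f, T_b, T_fi, T_g, T_f, T_g, T_bi, T_f] M (Nat.sub (MG u) (Nat.mod (MG u) M)) (nat_lit 40) z1 u (Nat.mod (MG u) M)) (Bool.rec (motive := fun _ => Bool) (mRel MG [T_g, T_bi] [T_bi, T_g, T_b, T_b] M (Nat.sub (MG u) (Nat.mod (MG u) M)) (nat_lit 40) z1 u (Nat.mod (MG u) M)) (mRel MG [T_g, T_zi, T_gi] [T_zi] M (Nat.sub (MG u) (Nat.mod (MG u) M)) (nat_lit 40) z1 u (Nat.mod (MG u) M)) (Nat.ble (nat_lit 66) j)) (Nat.ble (nat_lit 65) j)) (Nat.ble (nat_lit 64) j)) (Nat.ble (nat_lit 62) j)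
noncomputable def dM_13 (j z1 z2 u : ℕ) : Bool :=
  Bool.rec (motive := fun _ => Bool) (Bool.rec (motive := fun _ => Bool) (Bool.rec (motive := fun _ => Bool) (mRel MG [T_bi, T_bi] [T_gi, T_bi, T_g, T_b] M (Nat.sub (MG u) (Nat.mod (MG u) M)) (nat_lit 40) z1 u (Nat.mod (MG u) M)) (mRel MG [T_gi, T_z] [T_z, T_gi] M (Nat.sub (MG u) (Nat.mod (MG u) M)) (nat_lit 40) z1 u (Nat.mod (MG u) M)) (Nat.ble (nat_lit 68) j)) (Bool.rec (motive := fun _ => Bool) (mRel MG [T_b, T_g] [T_g, T_b, T_b, T_b] M (Nat.sub (MG u) (Nat.mod (MG u) M)) (nat_lit 40) z1 u (Nat.mod (MG u) M)) (Bool.rec (motive := fun _ => Bool) (mRel MG [T_gi] [T_fi, T_gi, T_fi, T_bi, T_fi, T_bi, T_bi, T_g, T_f, T_b, T_f] M (Nat.sub (MG u) (Nat.mod (MG u) M)) (nat_lit 40) z1 u (Nat.mod (MG u) M)) (mRel MG [T_bi] [T_gi, T_fi, T_gi, T_f, T_bi, T_fi, T_b, T_f, T_gi, T_bi, T_fi]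 M (Nat.sub (MG u) (Nat.mod (MG u) M)) (nat_lit 40) z1 u (Nat.mod (MG u) M)) (Nat.ble (nat_lit 71) j)) (Nat.ble (nat_lit 70) j)) (Nat.ble (nat_lit 69) j)) (Bool.rec (motive := fun _ => Bool) (Bool.rec (motive := fun _ => Bool) (mRel MG [T_gi] [T_f, T_g, T_bi, T_f, T_b, T_g, T_fi, T_bi, T_f, T_b, T_fi] M (Nat.sub (MG u) (Nat.mod (MG u) M)) (nat_lit 40) z1 u (Nat.mod (MG u) M)) (mRel MG [T_gi, T_fi] [T_fi, T_gi, T_fi, T_bi, T_fi, T_bi, T_bi, T_g, T_f, T_b] M (Nat.sub (MG u) (Nat.mod (MG u) M)) (nat_lit 40) z1 u (Nat.mod (MG u) M)) (Nat.ble (nat_lit 73) j)) (Bool.rec (motive := fun _ => Bool) (mRel MG [T_b, T_b, T_f, T_b, T_f, T_g, T_f] [T_g, T_f, T_b, T_f, T_g] M (Nat.sub (MG u) (Nat.mod (MG u) M)) (nat_lit 40) z1 u (Nat.mod (MG u) M)) (Bool.rec (motive := fun _ => Bool) (mRel MG [T_g, T_f] [T_fi, T_bi, T_fi, T_bi, T_bi, T_g, T_f,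 T_b, T_f, T_g] M (Nat.sub (MG u) (Nat.mod (MG u) M)) (nat_lit 40) z1 u (Nat.mod (MG u) M)) (mRel MG [T_g, T_n, T_g] [T_ni, T_gi, T_ni] M (Nat.sub (MG u) (Nat.mod (MG u) M)) (nat_lit 40) z1 u (Nat.mod (MG u) M)) (Nat.ble (nat_lit 76) j)) (Nat.ble (nat_lit 75) j)) (Nat.ble (nat_lit 74) j)) (Nat.ble (nat_lit 72) j)
noncomputable def dM_14 (j z1 z2 u : ℕ) : Bool :=
  Bool.rec (motive := fun _ => Bool) (dM_12 j z1 z2 u) (dM_13 j z1 z2 u) (Nat.ble (nat_lit 67) j)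
noncomputable def dM_15 (j z1 z2 u : ℕ) : Bool :=
  Bool.rec (motive := fun _ => Bool) (Bool.rec (motive := fun _ => Bool) (mRel MG [T_ni, T_gi, T_ni, T_gi, T_ni] [T_g] M (Nat.sub (MG u) (Nat.mod (MG u) M)) (nat_lit 40) z1 u (Nat.mod (MG u) M)) (Bool.rec (motive := fun _ => Bool) (mRel MG [T_bi, T_bi, T_g, T_f, T_b, T_f, T_g] [T_f, T_b, T_f, T_g, T_f] M (Nat.sub (MG u) (Nat.mod (MG u) M)) (nat_lit 40) z1 u (Nat.mod (MG u) M)) (mRel MG [T_g, T_fi, T_gi, T_fi, T_bi, T_fi, T_bi, T_bi, T_g] [T_fi, T_bi, T_fi] M (Nat.sub (MG u) (Nat.mod (MG u) M)) (nat_lit 40) z1 u (Nat.mod (MG u) M)) (Nat.ble (nat_lit 79) j)) (Nat.ble (nat_lit 78) j)) (Bool.rec (motive := fun _ => Bool) (Bool.rec (motive := fun _ => Bool) (mRel MG [T_b, T_f, T_gi, T_bi, T_fi, T_b, T_gi] [T_f, T_b, T_fi, T_g, T_f] M (Nat.sub (MG u) (Nat.mod (MG u) M)) (nat_lit 40) z1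 u (Nat.mod (MG u) M)) (mRel MG [T_ni, T_gi] [T_g, T_n, T_g, T_n] M (Nat.sub (MG u) (Nat.mod (MG u) M)) (nat_lit 40) z1 u (Nat.mod (MG u) M)) (Nat.ble (nat_lit 81) j)) (Bool.rec (motive := fun _ => Bool) (mRel MG [T_bi, T_gi, T_b] [T_b, T_b, T_gi] M (Nat.sub (MG u) (Nat.mod (MG u) M)) (nat_lit 40) z1 u (Nat.mod (MG u) M)) (mRel MG [T_n, T_n] [T_z] M (Nat.sub (MG u) (Nat.mod (MG u) M)) (nat_lit 40) z1 u (Nat.mod (MG u) M)) (Nat.ble (nat_lit 83) j)) (Nat.ble (nat_lit 82) j)) (Nat.ble (nat_lit 80) j)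
noncomputable def dM_16 (j z1 z2 u : ℕ) : Bool :=
  Bool.rec (motive := fun _ => Bool) (Bool.rec (motive := fun _ => Bool) (mRel MG [T_bi, T_bi, T_bi, T_gi, T_b, T_g] [] M (Nat.sub (MG u) (Nat.mod (MG u) M)) (nat_lit 40) z1 u (Nat.mod (MG u) M)) (Bool.rec (motive := fun _ => Bool) (mRel MG [T_b, T_f, T_b, T_fi] [T_fi, T_bi, T_f, T_b, T_b, T_f, T_b, T_b] M (Nat.sub (MG u) (Nat.mod (MG u) M)) (nat_lit 40) z1 u (Nat.mod (MG u) M)) (mRel MG [T_b, T_g, T_bi, T_bi, T_bi, T_gi] [] M (Nat.sub (MG u) (Nat.mod (MG u) M)) (nat_lit 40) z1 u (Nat.mod (MG u) M)) (Nat.ble (nat_lit 86) j)) (Nat.ble (nat_lit 85) j)) (Bool.rec (motive := fun _ => Bool) (Bool.rec (motive := fun _ => Bool) (mRel MG [T_b] [T_f, T_b, T_g, T_fi, T_bi, T_f, T_b, T_fi, T_g, T_f, T_g] M (Nat.sub (MG u) (Nat.mod (MG u) M)) (nat_lit 40) z1 u (Nat.mod (MG u) M)) (mRel MG [T_bi,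 T_bi, T_fi, T_bi, T_bi, T_fi, T_b] [T_f, T_bi, T_fi, T_bi, T_fi] M (Nat.sub (MG u) (Nat.mod (MG u) M)) (nat_lit 40) z1 u (Nat.mod (MG u) M)) (Nat.ble (nat_lit 88) j)) (Bool.rec (motive := fun _ => Bool) (mRel MG [T_gi, T_bi, T_g, T_b] [T_bi, T_bi] M (Nat.sub (MG u) (Nat.mod (MG u) M)) (nat_lit 40) z1 u (Nat.mod (MG u) M)) (mRel MG [T_b, T_b, T_b, T_gi, T_bi, T_g] [] M (Nat.sub (MG u) (Nat.mod (MG u) M)) (nat_lit 40) z1 u (Nat.mod (MG u) M)) (Nat.ble (nat_lit 90) j)) (Nat.ble (nat_lit 89) j)) (Nat.ble (nat_lit 87) j)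
noncomputable def dM_17 (j z1 z2 u : ℕ) : Bool :=
  Bool.rec (motive := fun _ => Bool) (dM_15 j z1 z2 u) (dM_16 j z1 z2 u) (Nat.ble (nat_lit 84) j)
noncomputable def dM_18 (j z1 z2 u : ℕ) : Bool :=
  Bool.rec (motive := fun _ => Bool) (Bool.rec (motive := fun _ => Bool) (mRel MG [T_g, T_n, T_g, T_n] [T_ni, T_gi] M (Nat.sub (MG u) (Nat.mod (MG u) M)) (nat_lit 40) z1 u (Nat.mod (MG u) M)) (Bool.rec (motive := fun _ => Bool) (mRel MG [T_gi, T_f, T_bi] [T_f, T_g, T_bi, T_f, T_b, T_g, T_fi, T_bi, T_f] M (Nat.sub (MG u) (Nat.mod (MG u) M)) (nat_lit 40) z1 u (Nat.mod (MG u) M)) (mRel MG [T_f, T_n] [T_n, T_fi] M (Nat.sub (MG u) (Nat.mod (MG u) M)) (nat_lit 40) z1 u (Nat.mod (MG u) M)) (Nat.ble (nat_lit 93) j)) (Nat.ble (nat_lit 92) j)) (Bool.rec (motive := fun _ => Bool) (Bool.rec (motive := fun _ => Bool) (mRel MG [T_b, T_gi, T_bi, T_g,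 T_b] [T_bi] M (Nat.sub (MG u) (Nat.mod (MG u) M)) (nat_lit 40) z1 u (Nat.mod (MG u) M)) (mRel MG [T_g] [T_f, T_bi, T_fi, T_b, T_f, T_gi, T_bi, T_fi, T_b, T_gi, T_fi] M (Nat.sub (MG u) (Nat.mod (MG u) M)) (nat_lit 40) z1 u (Nat.mod (MG u) M)) (Nat.ble (nat_lit 95) j)) (Bool.rec (motive := fun _ => Bool) (mRel MG [T_f] [T_gi, T_fi, T_bi, T_fi, T_bi, T_bi, T_g, T_f, T_b, T_f, T_g] M (Nat.sub (MG u) (Nat.mod (MG u) M)) (nat_lit 40) z1 u (Nat.mod (MG u) M)) (mRel MG [T_gi] [T_f, T_b, T_f, T_g, T_fi, T_gi, T_fi, T_bi, T_fi, T_bi, T_bi] M (Nat.sub (MG u) (Nat.mod (MG u) M)) (nat_lit 40) z1 u (Nat.mod (MG u) M)) (Nat.ble (nat_lit 97) j)) (Nat.ble (nat_lit 96) j)) (Nat.ble (nat_lit 94) j)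
noncomputable def dM_19 (j z1 z2 u : ℕ) : Bool :=
  Bool.rec (motive := fun _ => Bool) (Bool.rec (motive := fun _ => Bool) (Bool.rec (motive := fun _ => Bool) (mRel MG [T_b, T_gi, T_fi, T_gi, T_f, T_bi, T_fi, T_b, T_f] [T_f, T_b, T_g] M (Nat.sub (MG u) (Nat.mod (MG u) M)) (nat_lit 40) z1 u (Nat.mod (MG u) M)) (mRel MG [T_b] [T_bi, T_bi, T_gi, T_b, T_g] M (Nat.sub (MG u) (Nat.mod (MG u) M)) (nat_lit 40) z1 u (Nat.mod (MG u) M)) (Nat.ble (nat_lit 99) j)) (Bool.rec (motive := fun _ => Bool) (mRel MG [T_bi, T_bi, T_fi, T_b, T_f, T_b, T_f, T_b] [T_f, T_b, T_b, T_f] M (Nat.sub (MG u) (Nat.mod (MG u) M)) (nat_lit 40) z1 u (Nat.mod (MG u) M)) (mRel MG [T_n, T_bi, T_ni] [T_bi] M (Nat.sub (MG u) (Nat.mod (MG u) M)) (nat_lit 40) z1 u (Nat.mod (MG u) M)) (Nat.ble (nat_lit 101) j)) (Nat.ble (nat_lit 100) j)) (Bool.rec (motive := fun _ => Bool)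 (Bool.rec (motive := fun _ => Bool) (mRel MG [T_g, T_f] [T_f, T_bi, T_fi, T_b, T_f, T_gi, T_bi, T_fi, T_b, T_gi] M (Nat.sub (MG u) (Nat.mod (MG u) M)) (nat_lit 40) z1 u (Nat.mod (MG u) M)) (mRel MG [T_fi, T_bi, T_fi] [T_g, T_fi, T_gi, T_fi, T_bi, T_fi, T_bi, T_bi, T_g] M (Nat.sub (MG u) (Nat.mod (MG u) M)) (nat_lit 40) z1 u (Nat.mod (MG u) M)) (Nat.ble (nat_lit 103) j)) (Bool.rec (motive := fun _ => Bool) (mRel MG [T_g, T_f, T_g] [T_f, T_bi, T_fi, T_b, T_f, T_gi, T_bi, T_fi, T_b] M (Nat.sub (MG u) (Nat.mod (MG u) M)) (nat_lit 40) z1 u (Nat.mod (MG u) M)) (Bool.rec (motive := fun _ => Bool) (mRel MG [T_bi, T_bi, T_g, T_f, T_b, T_f, T_g, T_fi] [T_f, T_b, T_f, T_g] M (Nat.sub (MG u) (Nat.mod (MG u) M)) (nat_lit 40) z1 u (Nat.mod (MG u) M)) (mRel MG [T_f, T_b, T_f, T_g, T_fi, T_gi, T_fi, T_bi, T_fi, T_bi, T_bi, T_g] [] M (Nat.sub (MG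 u) (Nat.mod (MG u) M)) (nat_lit 40) z1 u (Nat.mod (MG u) M)) (Nat.ble (nat_lit 106) j)) (Nat.ble (nat_lit 105) j)) (Nat.ble (nat_lit 104) j)) (Nat.ble (nat_lit 102) j)
noncomputable def dM_20 (j z1 z2 u : ℕ) : Bool :=
  Bool.rec (motive := fun _ => Bool) (dM_18 j z1 z2 u) (dM_19 j z1 z2 u) (Nat.ble (nat_lit 98) j)
noncomputable def dM_21 (j z1 z2 u : ℕ) : Bool :=
  Bool.rec (motive := fun _ => Bool) (dM_17 j z1 z2 u) (dM_20 j z1 z2 u) (Nat.ble (nat_lit 91) j)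
noncomputable def dM_22 (j z1 z2 u : ℕ) : Bool :=
  Bool.rec (motive := fun _ => Bool) (dM_14 j z1 z2 u) (dM_21 j z1 z2 u) (Nat.ble (nat_lit 77) j)
noncomputable def dM_23 (j z1 z2 u : ℕ) : Bool :=
  Bool.rec (motive := fun _ => Bool) (dM_11 j z1 z2 u) (dM_22 j z1 z2 u) (Nat.ble (nat_lit 57) j)
noncomputable def dM_24 (j z1 z2 u : ℕ) : Bool :=
  Bool.rec (motive := fun _ => Bool) (Bool.rec (motive := fun _ => Bool) (Bool.rec (motive := fun _ => Bool) (mRel MG [T_g, T_f, T_gi, T_fi, T_bi, T_fi, T_gi, T_b, T_b, T_f] [T_fi, T_bi] M (Nat.sub (MG u) (Nat.mod (MG u) M)) (nat_lit 40) z1 u (Nat.mod (MG u) M)) (mRel MG [T_gi, T_fi, T_bi, T_fi, T_bi, T_bi, T_g] [T_f, T_gi, T_fi, T_bi, T_fi] M (Nat.sub (MG u) (Nat.mod (MG u) M)) (nat_lit 40) z1 u (Nat.mod (MG u) M)) (Nat.ble (nat_lit 108) j)) (Bool.rec (motive := fun _ => Bool) (mRel MG [T_f,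 T_b, T_fi, T_g, T_f, T_g, T_bi, T_f, T_b, T_g, T_fi] [T_b] M (Nat.sub (MG u) (Nat.mod (MG u) M)) (nat_lit 40) z1 u (Nat.mod (MG u) M)) (Bool.rec (motive := fun _ => Bool) (mRel MG [T_gi, T_b, T_b, T_f, T_b, T_f, T_g, T_f] [T_f, T_b, T_f, T_g] M (Nat.sub (MG u) (Nat.mod (MG u) M)) (nat_lit 40) z1 u (Nat.mod (MG u) M)) (mRel MG [T_gi, T_fi, T_bi, T_fi, T_bi, T_bi, T_g, T_f, T_b, T_f, T_g] [T_f] M (Nat.sub (MG u) (Nat.mod (MG u) M)) (nat_lit 40) z1 u (Nat.mod (MG u) M)) (Nat.ble (nat_lit 111) j)) (Nat.ble (nat_lit 110) j)) (Nat.ble (nat_lit 109) j)) (Bool.rec (motive := fun _ => Bool) (Bool.rec (motive := fun _ => Bool) (mRel MG [T_f, T_bi, T_fi, T_b, T_f, T_gi] [T_g, T_f, T_g, T_bi, T_f, T_b] M (Nat.sub (MG u) (Nat.mod (MG u) M)) (nat_lit 40) z1 u (Nat.mod (MG u) M)) (mRel MG [T_ni, T_b, T_n] [T_b] M (Nat.sub (MG u) (Nat.mod (MG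 u) M)) (nat_lit 40) z1 u (Nat.mod (MG u) M)) (Nat.ble (nat_lit 113) j)) (Bool.rec (motive := fun _ => Bool) (mRel MG [T_ni, T_bi] [T_bi, T_ni] M (Nat.sub (MG u) (Nat.mod (MG u) M)) (nat_lit 40) z1 u (Nat.mod (MG u) M)) (Bool.rec (motive := fun _ => Bool) (mRel MG [T_b, T_f, T_bi, T_fi, T_bi, T_fi] [T_bi, T_fi, T_bi, T_bi, T_fi, T_b] M (Nat.sub (MG u) (Nat.mod (MG u) M)) (nat_lit 40) z1 u (Nat.mod (MG u) M)) (mRel MG [T_b, T_f, T_b, T_f, T_b, T_fi, T_bi, T_bi] [T_f, T_b, T_b, T_f] M (Nat.sub (MG u) (Nat.mod (MG u) M)) (nat_lit 40) z1 u (Nat.mod (MG u) M)) (Nat.ble (nat_lit 116) j)) (Nat.ble (nat_lit 115) j)) (Nat.ble (nat_lit 114) j)) (Nat.ble (nat_lit 112) j)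
noncomputable def dM_25 (j z1 z2 u : ℕ) : Bool :=
  Bool.rec (motive := fun _ => Bool) (Bool.rec (motive := fun _ => Bool) (Bool.rec (motive := fun _ => Bool) (mRel MG [T_fi, T_bi, T_bi, T_g, T_f, T_b] [T_b, T_f, T_g, T_f, T_gi, T_fi] M (Nat.sub (MG u) (Nat.mod (MG u) M)) (nat_lit 40) z1 u (Nat.mod (MG u) M)) (mRel MG [T_f, T_b, T_fi, T_bi, T_bi, T_fi, T_bi, T_bi, T_fi] [T_bi, T_fi, T_bi] M (Nat.sub (MG u) (Nat.mod (MG u) M)) (nat_lit 40) z1 u (Nat.mod (MG u) M)) (Nat.ble (nat_lit 118) j)) (Bool.rec (motive := fun _ => Bool) (mRel MG [T_fi, T_gi, T_b, T_b, T_f, T_b, T_f, T_g, T_f, T_gi] [T_b, T_f] M (Nat.sub (MG u) (Nat.mod (MG u) M)) (nat_lit 40) z1 u (Nat.mod (MG u) M)) (Bool.rec (motive := fun _ => Bool) (mRel MG [T_bi, T_fi, T_bi, T_f, T_b, T_b, T_f, T_b, T_b] [T_f, T_b, T_fi] M (Nat.sub (MG u) (Nat.mod (MG u) M)) (nat_lit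 40) z1 u (Nat.mod (MG u) M)) (mRel MG [T_f, T_b, T_b, T_f, T_b, T_b] [T_b, T_f, T_b, T_f, T_b, T_fi] M (Nat.sub (MG u) (Nat.mod (MG u) M)) (nat_lit 40) z1 u (Nat.mod (MG u) M)) (Nat.ble (nat_lit 121) j)) (Nat.ble (nat_lit 120) j)) (Nat.ble (nat_lit 119) j)) (Bool.rec (motive := fun _ => Bool) (Bool.rec (motive := fun _ => Bool) (mRel MG [T_b, T_b] [T_gi, T_b, T_g, T_bi] M (Nat.sub (MG u) (Nat.mod (MG u) M)) (nat_lit 40) z1 u (Nat.mod (MG u) M)) (mRel MG [T_b, T_f, T_b, T_f, T_b, T_fi, T_bi] [T_f, T_b, T_b, T_f, T_b] M (Nat.sub (MG u) (Nat.mod (MG u) M)) (nat_lit 40) z1 u (Nat.mod (MG u) M)) (Nat.ble (nat_lit 123) j)) (Bool.rec (motive := fun _ => Bool) (mRel MG [T_b, T_b, T_f, T_bi, T_fi, T_bi, T_fi, T_bi] [T_fi, T_bi, T_bi, T_fi] M (Nat.sub (MG u) (Nat.mod (MG u) M)) (nat_lit 40) z1 u (Nat.mod (MG u) M)) (Bool.rec (motive := fun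 _ => Bool) (mRel MG [T_g, T_fi, T_bi, T_f, T_b, T_fi, T_g, T_f, T_g, T_bi] [T_bi, T_fi] M (Nat.sub (MG u) (Nat.mod (MG u) M)) (nat_lit 40) z1 u (Nat.mod (MG u) M)) (mRel MG [T_b] [T_fi, T_gi, T_b, T_b, T_f, T_b, T_f, T_g, T_f, T_gi, T_fi] M (Nat.sub (MG u) (Nat.mod (MG u) M)) (nat_lit 40) z1 u (Nat.mod (MG u) M)) (Nat.ble (nat_lit 126) j)) (Nat.ble (nat_lit 125) j)) (Nat.ble (nat_lit 124) j)) (Nat.ble (nat_lit 122) j)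
noncomputable def dM_26 (j z1 z2 u : ℕ) : Bool :=
  Bool.rec (motive := fun _ => Bool) (dM_24 j z1 z2 u) (dM_25 j z1 z2 u) (Nat.ble (nat_lit 117) j)
noncomputable def dM_27 (j z1 z2 u : ℕ) : Bool :=
  Bool.rec (motive := fun _ => Bool) (Bool.rec (motive := fun _ => Bool) (Bool.rec (motive := fun _ => Bool) (mRel MG [T_f, T_b, T_fi, T_g, T_f, T_g, T_bi, T_f] [T_b, T_f, T_gi, T_bi] M (Nat.sub (MG u) (Nat.mod (MG u) M)) (nat_lit 40) z1 u (Nat.mod (MG u) M)) (mRel MG [T_b] [T_fi, T_b, T_f, T_b, T_f, T_b, T_fi, T_bi, T_bi, T_fi, T_bi] M (Nat.sub (MG u) (Nat.mod (MG u) M)) (nat_lit 40) z1 u (Nat.mod (MG u) M)) (Nat.ble (nat_lit 128) j)) (Bool.rec (motive := fun _ => Bool) (mRel MG [T_fi, T_bi, T_bi, T_g, T_f, T_b, T_f, T_g, T_fi, T_gi] [T_b, T_f] M (Nat.sub (MG u) (Nat.mod (MG u) M)) (nat_lit 40) z1 u (Nat.mod (MG u) M)) (Bool.rec (motive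 := fun _ => Bool) (mRel MG [T_b, T_b, T_f] [T_fi, T_bi, T_bi, T_fi, T_b, T_f, T_b, T_f, T_b] M (Nat.sub (MG u) (Nat.mod (MG u) M)) (nat_lit 40) z1 u (Nat.mod (MG u) M)) (mRel MG [T_ni, T_gi, T_ni, T_gi] [T_g, T_n] M (Nat.sub (MG u) (Nat.mod (MG u) M)) (nat_lit 40) z1 u (Nat.mod (MG u) M)) (Nat.ble (nat_lit 131) j)) (Nat.ble (nat_lit 130) j)) (Nat.ble (nat_lit 129) j)) (Bool.rec (motive := fun _ => Bool) (Bool.rec (motive := fun _ => Bool) (mRel MG [T_b, T_f, T_b, T_f, T_b] [T_f, T_b, T_b, T_f, T_b, T_b, T_f] M (Nat.sub (MG u) (Nat.mod (MG u) M)) (nat_lit 40) z1 u (Nat.mod (MG u) M)) (mRel MG [T_b, T_fi, T_g] [T_fi, T_b, T_f, T_gi, T_bi, T_fi, T_b, T_gi, T_fi] M (Nat.sub (MG u) (Nat.mod (MG u) M)) (nat_lit 40) z1 u (Nat.mod (MG u) M)) (Nat.ble (nat_lit 133) j)) (Bool.rec (motive := fun _ => Bool) (mRel MG [T_fi, T_bi, T_fi, T_gi]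 [T_g, T_fi, T_gi, T_fi, T_bi, T_fi, T_bi, T_bi] M (Nat.sub (MG u) (Nat.mod (MG u) M)) (nat_lit 40) z1 u (Nat.mod (MG u) M)) (Bool.rec (motive := fun _ => Bool) (mRel MG [T_gi, T_bi, T_fi, T_b] [T_fi, T_bi, T_f, T_b, T_fi, T_g, T_f, T_g] M (Nat.sub (MG u) (Nat.mod (MG u) M)) (nat_lit 40) z1 u (Nat.mod (MG u) M)) (mRel MG [T_bi, T_fi, T_b, T_gi, T_fi, T_gi, T_f, T_bi, T_fi] [T_g, T_fi, T_bi] M (Nat.sub (MG u) (Nat.mod (MG u) M)) (nat_lit 40) z1 u (Nat.mod (MG u) M)) (Nat.ble (nat_lit 136) j)) (Nat.ble (nat_lit 135) j)) (Nat.ble (nat_lit 134) j)) (Nat.ble (nat_lit 132) j)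
noncomputable def dM_28 (j z1 z2 u : ℕ) : Bool :=
  Bool.rec (motive := fun _ => Bool) (Bool.rec (motive := fun _ => Bool) (Bool.rec (motive := fun _ => Bool) (mRel MG [T_bi, T_bi, T_gi, T_b, T_g] [T_b] M (Nat.sub (MG u) (Nat.mod (MG u) M)) (nat_lit 40) z1 u (Nat.mod (MG u) M)) (mRel MG [T_b, T_gi, T_fi] [T_f, T_b, T_g, T_fi, T_bi, T_f, T_b, T_fi, T_g] M (Nat.sub (MG u) (Nat.mod (MG u) M)) (nat_lit 40) z1 u (Nat.mod (MG u) M)) (Nat.ble (nat_lit 138) j)) (Bool.rec (motive := fun _ => Bool) (mRel MG [T_gi, T_fi, T_bi, T_fi] [T_f, T_gi, T_fi, T_bi, T_fi, T_gi, T_b, T_b] M (Nat.sub (MG u) (Nat.mod (MG u) M)) (nat_lit 40) z1 u (Nat.mod (MG u) M)) (Bool.rec (motive := fun _ => Bool) (mRel MG [T_b, T_f, T_g] [T_fi, T_gi, T_b, T_b, T_f, T_b, T_f, T_g, T_f] M (Nat.sub (MG u) (Nat.mod (MG u) M)) (nat_lit 40) z1 u (Nat.mod (MG u) M)) (mRel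 MG [T_n, T_f, T_ni, T_f] [] M (Nat.sub (MG u) (Nat.mod (MG u) M)) (nat_lit 40) z1 u (Nat.mod (MG u) M)) (Nat.ble (nat_lit 141) j)) (Nat.ble (nat_lit 140) j)) (Nat.ble (nat_lit 139) j)) (Bool.rec (motive := fun _ => Bool) (Bool.rec (motive := fun _ => Bool) (mRel MG [T_bi, T_fi, T_b, T_gi] [T_g, T_fi, T_bi, T_f, T_b, T_fi, T_g, T_f] M (Nat.sub (MG u) (Nat.mod (MG u) M)) (nat_lit 40) z1 u (Nat.mod (MG u) M)) (Bool.rec (motive := fun _ => Bool) (mRel MG [T_fi, T_bi, T_bi, T_fi, T_b, T_f, T_b, T_f] [T_b, T_b, T_f, T_bi] M (Nat.sub (MG u) (Nat.mod (MG u) M)) (nat_lit 40) z1 u (Nat.mod (MG u) M)) (mRel MG [T_gi, T_b, T_g, T_bi, T_bi] [T_b] M (Nat.sub (MG u) (Nat.mod (MG u) M)) (nat_lit 40) z1 u (Nat.mod (MG u) M)) (Nat.ble (nat_lit 144) j)) (Nat.ble (nat_lit 143) j)) (Bool.rec (motive := fun _ => Bool) (mRel MG [T_fi, T_gi, T_b, T_b,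 T_f, T_b, T_f, T_g, T_f] [T_b, T_f, T_g] M (Nat.sub (MG u) (Nat.mod (MG u) M)) (nat_lit 40) z1 u (Nat.mod (MG u) M)) (Bool.rec (motive := fun _ => Bool) (mRel MG [T_f, T_b, T_b, T_f, T_bi, T_fi, T_bi] [T_bi, T_bi, T_fi, T_b, T_f] M (Nat.sub (MG u) (Nat.mod (MG u) M)) (nat_lit 40) z1 u (Nat.mod (MG u) M)) (mRel MG [T_bi, T_bi, T_g, T_f, T_b, T_f, T_g, T_fi, T_gi] [T_f, T_b, T_f] M (Nat.sub (MG u) (Nat.mod (MG u) M)) (nat_lit 40) z1 u (Nat.mod (MG u) M)) (Nat.ble (nat_lit 147) j)) (Nat.ble (nat_lit 146) j)) (Nat.ble (nat_lit 145) j)) (Nat.ble (nat_lit 142) j)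
noncomputable def dM_29 (j z1 z2 u : ℕ) : Bool :=
  Bool.rec (motive := fun _ => Bool) (dM_27 j z1 z2 u) (dM_28 j z1 z2 u) (Nat.ble (nat_lit 137) j)
noncomputable def dM_30 (j z1 z2 u : ℕ) : Bool :=
  Bool.rec (motive := fun _ => Bool) (dM_26 j z1 z2 u) (dM_29 j z1 z2 u) (Nat.ble (nat_lit 127) j)
noncomputable def dM_31 (j z1 z2 u : ℕ) : Bool :=
  Bool.rec (motive := fun _ => Bool) (Bool.rec (motive := fun _ => Bool) (Bool.rec (motive := fun _ => Bool) (mRel MG [T_b, T_f, T_b, T_f, T_g, T_f, T_gi] [T_bi, T_g, T_f, T_b, T_f] M (Nat.sub (MG u) (Nat.mod (MG u) M)) (nat_lit 40) z1 u (Nat.mod (MG u) M)) (mRel MG [T_bi, T_fi, T_bi, T_f, T_b, T_b, T_f] [T_f, T_b, T_fi, T_bi, T_bi] M (Nat.sub (MG u) (Nat.mod (MG u) M)) (nat_lit 40) z1 u (Nat.mod (MG u) M)) (Nat.ble (nat_lit 149) j)) (Bool.rec (motive := fun _ => Bool) (mRel MG [T_fi, T_gi,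 T_fi] [T_gi, T_fi, T_bi, T_fi, T_gi, T_b, T_b, T_f, T_b] M (Nat.sub (MG u) (Nat.mod (MG u) M)) (nat_lit 40) z1 u (Nat.mod (MG u) M)) (Bool.rec (motive := fun _ => Bool) (mRel MG [T_g, T_bi, T_f, T_b] [T_fi, T_gi, T_f, T_bi, T_fi, T_b, T_f, T_gi] M (Nat.sub (MG u) (Nat.mod (MG u) M)) (nat_lit 40) z1 u (Nat.mod (MG u) M)) (mRel MG [T_n, T_g, T_n] [T_gi, T_ni, T_gi] M (Nat.sub (MG u) (Nat.mod (MG u) M)) (nat_lit 40) z1 u (Nat.mod (MG u) M)) (Nat.ble (nat_lit 152) j)) (Nat.ble (nat_lit 151) j)) (Nat.ble (nat_lit 150) j)) (Bool.rec (motive := fun _ => Bool) (Bool.rec (motive := fun _ => Bool) (mRel MG [T_ni, T_gi, T_ni] [T_g, T_n, T_g] M (Nat.sub (MG u) (Nat.mod (MG u) M)) (nat_lit 40) z1 u (Nat.mod (MG u) M)) (mRel MG [T_gi, T_bi, T_g, T_b, T_b] [T_bi] M (Nat.sub (MG u) (Nat.mod (MG u) M)) (nat_lit 40) z1 u (Nat.mod (MG u) M)) (Nat.ble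 (nat_lit 154) j)) (Bool.rec (motive := fun _ => Bool) (mRel MG [T_bi, T_f, T_b, T_fi, T_g] [T_f, T_gi, T_bi, T_fi, T_b, T_gi, T_fi] M (Nat.sub (MG u) (Nat.mod (MG u) M)) (nat_lit 40) z1 u (Nat.mod (MG u) M)) (Bool.rec (motive := fun _ => Bool) (mRel MG [T_f, T_f] [T_fi] M (Nat.sub (MG u) (Nat.mod (MG u) M)) (nat_lit 40) z1 u (Nat.mod (MG u) M)) (mRel MG [T_n, T_b, T_ni] [T_b] M (Nat.sub (MG u) (Nat.mod (MG u) M)) (nat_lit 40) z1 u (Nat.mod (MG u) M)) (Nat.ble (nat_lit 157) j)) (Nat.ble (nat_lit 156) j)) (Nat.ble (nat_lit 155) j)) (Nat.ble (nat_lit 153) j)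
noncomputable def dM_32 (j z1 z2 u : ℕ) : Bool :=
  Bool.rec (motive := fun _ => Bool) (Bool.rec (motive := fun _ => Bool) (mRel MG [T_gi, T_fi, T_bi, T_fi] [T_fi, T_gi, T_fi, T_bi, T_fi, T_bi, T_bi, T_g] M (Nat.sub (MG u) (Nat.mod (MG u) M)) (nat_lit 40) z1 u (Nat.mod (MG u) M)) (mRel MG [T_gi, T_bi, T_fi, T_b, T_gi] [T_fi, T_bi, T_f, T_b, T_fi, T_g, T_f] M (Nat.sub (MG u) (Nat.mod (MG u) M)) (nat_lit 40) z1 u (Nat.mod (MG u) M)) (Nat.ble (nat_lit 159) j)) (Bool.rec (motive := fun _ => Bool) (mRel MG [T_gi, T_fi] [T_f, T_gi, T_fi, T_bi, T_fi, T_gi, T_b, T_b, T_f, T_b] M (Nat.sub (MG u) (Nat.mod (MG u) M)) (nat_lit 40) z1 u (Nat.mod (MG u) M)) (Bool.rec (motive := fun _ => Bool) (mRel MG [T_fi, T_ni, T_fi] [T_ni] M (Nat.sub (MG u) (Nat.mod (MG u) M)) (nat_lit 40) z1 u (Nat.mod (MG u) M)) (mRel MG [T_g, T_n] [T_ni, T_gi, T_ni, T_gi]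 M (Nat.sub (MG u) (Nat.mod (MG u) M)) (nat_lit 40) z1 u (Nat.mod (MG u) M)) (Nat.ble (nat_lit 162) j)) (Nat.ble (nat_lit 161) j)) (Nat.ble (nat_lit 160) j)
noncomputable def dM_33 (j z1 z2 u : ℕ) : Bool :=
  Bool.rec (motive := fun _ => Bool) (Bool.rec (motive := fun _ => Bool) (mRel MG [T_n, T_g, T_n, T_g, T_n, T_g] [] M (Nat.sub (MG u) (Nat.mod (MG u) M)) (nat_lit 40) z1 u (Nat.mod (MG u) M)) (Bool.rec (motive := fun _ => Bool) (mRel MG [T_gi, T_fi, T_gi, T_f, T_bi, T_fi] [T_bi, T_f, T_b, T_g, T_fi, T_bi] M (Nat.sub (MG u) (Nat.mod (MG u) M)) (nat_lit 40) z1 u (Nat.mod (MG u) M)) (Bool.rec (motive := fun _ => Bool) (mRel MG [T_g, T_f] [T_b, T_b, T_f, T_b, T_f, T_g, T_f, T_gi, T_fi, T_bi] M (Nat.sub (MG u) (Nat.mod (MG u) M)) (nat_lit 40) z1 u (Nat.mod (MG u) M)) (mRel MG [T_bi, T_bi, T_g, T_f, T_b, T_f, T_g, T_fi, T_gi, T_fi,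 T_bi, T_fi] [] M (Nat.sub (MG u) (Nat.mod (MG u) M)) (nat_lit 40) z1 u (Nat.mod (MG u) M)) (Nat.ble (nat_lit 166) j)) (Nat.ble (nat_lit 165) j)) (Nat.ble (nat_lit 164) j)) (Bool.rec (motive := fun _ => Bool) (Bool.rec (motive := fun _ => Bool) (mRel MG [T_bi, T_g, T_b] [T_g, T_bi, T_bi] M (Nat.sub (MG u) (Nat.mod (MG u) M)) (nat_lit 40) z1 u (Nat.mod (MG u) M)) (Bool.rec (motive := fun _ => Bool) (mRel MG [T_g] [T_bi, T_fi, T_b, T_gi, T_fi, T_gi, T_f, T_bi, T_fi, T_b, T_f] M (Nat.sub (MG u) (Nat.mod (MG u) M)) (nat_lit 40) z1 u (Nat.mod (MG u) M)) (mRel MG [T_bi, T_bi, T_g] [T_f, T_b, T_f, T_g, T_f, T_gi, T_fi, T_bi, T_fi] M (Nat.sub (MG u) (Nat.mod (MG u) M)) (nat_lit 40) z1 u (Nat.mod (MG u) M)) (Nat.ble (nat_lit 169) j)) (Nat.ble (nat_lit 168) j)) (Bool.rec (motive := fun _ => Bool) (mRel MG [T_f, T_bi, T_fi, T_bi, T_fi, T_bi,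 T_f, T_b, T_b] [T_bi, T_bi, T_fi] M (Nat.sub (MG u) (Nat.mod (MG u) M)) (nat_lit 40) z1 u (Nat.mod (MG u) M)) (Bool.rec (motive := fun _ => Bool) (mRel MG [T_b, T_f, T_b, T_f, T_b, T_fi, T_bi, T_bi, T_fi] [T_f, T_b, T_b] M (Nat.sub (MG u) (Nat.mod (MG u) M)) (nat_lit 40) z1 u (Nat.mod (MG u) M)) (mRel MG [T_b, T_f, T_g, T_f, T_gi, T_fi, T_bi, T_fi, T_gi, T_b, T_b] [T_fi] M (Nat.sub (MG u) (Nat.mod (MG u) M)) (nat_lit 40) z1 u (Nat.mod (MG u) M)) (Nat.ble (nat_lit 172) j)) (Nat.ble (nat_lit 171) j)) (Nat.ble (nat_lit 170) j)) (Nat.ble (nat_lit 167) j)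
noncomputable def dM_34 (j z1 z2 u : ℕ) : Bool :=
  Bool.rec (motive := fun _ => Bool) (dM_32 j z1 z2 u) (dM_33 j z1 z2 u) (Nat.ble (nat_lit 163) j)
noncomputable def dM_35 (j z1 z2 u : ℕ) : Bool :=
  Bool.rec (motive := fun _ => Bool) (dM_31 j z1 z2 u) (dM_34 j z1 z2 u) (Nat.ble (nat_lit 158) j)
noncomputable def dM_36 (j z1 z2 u : ℕ) : Bool :=
  Bool.rec (motive := fun _ => Bool) (Bool.rec (motive := fun _ => Bool) (Bool.rec (motive := fun _ => Bool) (mRel MG [T_bi, T_fi, T_b, T_gi, T_fi, T_gi, T_f, T_bi, T_fi, T_b, T_f, T_gi] [] M (Nat.sub (MG u) (Nat.mod (MG u) M)) (nat_lit 40) z1 u (Nat.mod (MG u) M)) (mRel MG [T_f, T_b] [T_bi, T_bi, T_fi, T_b, T_f, T_b, T_f, T_b, T_fi, T_bi] M (Nat.sub (MG u) (Nat.mod (MG u) M)) (nat_lit 40) z1 u (Nat.mod (MG u) M)) (Nat.ble (nat_lit 174) j)) (Bool.rec (motive := fun _ => Bool) (mRel MG [T_bi,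 T_fi] [T_f, T_b, T_fi, T_bi, T_bi, T_fi, T_bi, T_bi, T_fi, T_b] M (Nat.sub (MG u) (Nat.mod (MG u) M)) (nat_lit 40) z1 u (Nat.mod (MG u) M)) (Bool.rec (motive := fun _ => Bool) (mRel MG [T_b, T_f, T_b, T_f, T_g, T_f] [T_bi, T_g, T_f, T_b, T_f, T_g] M (Nat.sub (MG u) (Nat.mod (MG u) M)) (nat_lit 40) z1 u (Nat.mod (MG u) M)) (mRel MG [T_bi, T_fi, T_b, T_f, T_gi, T_bi, T_fi, T_b, T_gi] [T_fi, T_g, T_f] M (Nat.sub (MG u) (Nat.mod (MG u) M)) (nat_lit 40) z1 u (Nat.mod (MG u) M)) (Nat.ble (nat_lit 177) j)) (Nat.ble (nat_lit 176) j)) (Nat.ble (nat_lit 175) j)) (Bool.rec (motive := fun _ => Bool) (Bool.rec (motive := fun _ => Bool) (mRel MG [T_bi, T_fi, T_b, T_gi, T_fi, T_gi] [T_g, T_fi, T_bi, T_f, T_b, T_fi] M (Nat.sub (MG u) (Nat.mod (MG u) M)) (nat_lit 40) z1 u (Nat.mod (MG u) M)) (mRel MG [T_b, T_g, T_fi, T_bi, T_f, T_b, T_fi, T_g,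 T_f] [T_fi, T_b, T_gi] M (Nat.sub (MG u) (Nat.mod (MG u) M)) (nat_lit 40) z1 u (Nat.mod (MG u) M)) (Nat.ble (nat_lit 179) j)) (Bool.rec (motive := fun _ => Bool) (mRel MG [T_b, T_f, T_gi, T_bi, T_fi, T_b] [T_f, T_b, T_fi, T_g, T_f, T_g] M (Nat.sub (MG u) (Nat.mod (MG u) M)) (nat_lit 40) z1 u (Nat.mod (MG u) M)) (Bool.rec (motive := fun _ => Bool) (mRel MG [T_gi, T_f, T_bi, T_fi, T_b, T_f, T_gi, T_bi, T_fi, T_b, T_gi, T_fi] [] M (Nat.sub (MG u) (Nat.mod (MG u) M)) (nat_lit 40) z1 u (Nat.mod (MG u) M)) (mRel MG [T_bi] [T_f, T_g, T_fi, T_gi, T_fi, T_bi, T_fi, T_bi, T_bi, T_g, T_f] M (Nat.sub (MG u) (Nat.mod (MG u) M)) (nat_lit 40) z1 u (Nat.mod (MG u) M)) (Nat.ble (nat_lit 182) j)) (Nat.ble (nat_lit 181) j)) (Nat.ble (nat_lit 180) j)) (Nat.ble (nat_lit 178) j)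
noncomputable def dM_37 (j z1 z2 u : ℕ) : Bool :=
  Bool.rec (motive := fun _ => Bool) (Bool.rec (motive := fun _ => Bool) (Bool.rec (motive := fun _ => Bool) (mRel MG [T_b, T_f, T_b, T_b, T_f, T_bi, T_fi, T_bi, T_fi, T_bi, T_f, T_b] [] M (Nat.sub (MG u) (Nat.mod (MG u) M)) (nat_lit 40) z1 u (Nat.mod (MG u) M)) (mRel MG [T_fi, T_bi, T_f, T_b, T_fi, T_g, T_f] [T_gi, T_bi, T_fi, T_b, T_gi] M (Nat.sub (MG u) (Nat.mod (MG u) M)) (nat_lit 40) z1 u (Nat.mod (MG u) M)) (Nat.ble (nat_lit 184) j)) (Bool.rec (motive := fun _ => Bool) (mRel MG [T_f, T_b, T_b, T_f, T_b, T_b, T_f] [T_b, T_f, T_b, T_f, T_b] M (Nat.sub (MG u) (Nat.mod (MG u) M)) (nat_lit 40) z1 u (Nat.mod (MG u) M)) (Bool.rec (motive := fun _ => Bool) (mRel MG [T_b, T_gi, T_fi, T_gi, T_f, T_bi, T_fi, T_b, T_f, T_gi, T_bi, T_fi] [] M (Nat.sub (MG u) (Nat.mod (MG u) M)) (nat_lit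 40) z1 u (Nat.mod (MG u) M)) (mRel MG [T_f, T_bi] [T_bi, T_bi, T_fi, T_bi, T_bi, T_fi, T_b, T_f, T_b, T_f] M (Nat.sub (MG u) (Nat.mod (MG u) M)) (nat_lit 40) z1 u (Nat.mod (MG u) M)) (Nat.ble (nat_lit 187) j)) (Nat.ble (nat_lit 186) j)) (Nat.ble (nat_lit 185) j)) (Bool.rec (motive := fun _ => Bool) (Bool.rec (motive := fun _ => Bool) (mRel MG [T_bi, T_f, T_b, T_b, T_f, T_b, T_b, T_f, T_bi, T_fi, T_bi] [T_f] M (Nat.sub (MG u) (Nat.mod (MG u) M)) (nat_lit 40) z1 u (Nat.mod (MG u) M)) (Bool.rec (motive := fun _ => Bool) (mRel MG [T_f, T_bi, T_fi, T_b, T_f, T_gi, T_bi, T_fi] [T_g, T_f, T_g, T_bi] M (Nat.sub (MG u) (Nat.mod (MG u) M)) (nat_lit 40) z1 u (Nat.mod (MG u) M)) (mRel MG [T_f, T_bi, T_fi, T_bi, T_fi, T_bi] [T_bi, T_bi, T_fi, T_bi, T_bi, T_fi] M (Nat.sub (MG u) (Nat.mod (MG u) M)) (nat_lit 40) z1 u (Nat.mod (MG u) M)) (Nat.ble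 (nat_lit 190) j)) (Nat.ble (nat_lit 189) j)) (Bool.rec (motive := fun _ => Bool) (mRel MG [T_fi, T_bi, T_fi, T_bi, T_bi, T_g] [T_g, T_f, T_gi, T_fi, T_bi, T_fi] M (Nat.sub (MG u) (Nat.mod (MG u) M)) (nat_lit 40) z1 u (Nat.mod (MG u) M)) (Bool.rec (motive := fun _ => Bool) (mRel MG [T_b, T_g, T_fi, T_bi, T_f, T_b, T_fi, T_g, T_f, T_g, T_bi, T_f] [] M (Nat.sub (MG u) (Nat.mod (MG u) M)) (nat_lit 40) z1 u (Nat.mod (MG u) M)) (mRel MG [T_f, T_b, T_b, T_f] [T_bi, T_bi, T_fi, T_b, T_f, T_b, T_f, T_b] M (Nat.sub (MG u) (Nat.mod (MG u) M)) (nat_lit 40) z1 u (Nat.mod (MG u) M)) (Nat.ble (nat_lit 193) j)) (Nat.ble (nat_lit 192) j)) (Nat.ble (nat_lit 191) j)) (Nat.ble (nat_lit 188) j)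
noncomputable def dM_38 (j z1 z2 u : ℕ) : Bool :=
  Bool.rec (motive := fun _ => Bool) (dM_36 j z1 z2 u) (dM_37 j z1 z2 u) (Nat.ble (nat_lit 183) j)
noncomputable def dM_39 (j z1 z2 u : ℕ) : Bool :=
  Bool.rec (motive := fun _ => Bool) (Bool.rec (motive := fun _ => Bool) (Bool.rec (motive := fun _ => Bool) (mRel MG [T_fi, T_b, T_f, T_b, T_f, T_b, T_fi, T_bi] [T_b, T_b, T_f, T_b] M (Nat.sub (MG u) (Nat.mod (MG u) M)) (nat_lit 40) z1 u (Nat.mod (MG u) M)) (mRel MG [T_b, T_b, T_f, T_bi, T_fi] [T_fi, T_bi, T_bi, T_fi, T_b, T_f, T_b] M (Nat.sub (MG u) (Nat.mod (MG u) M)) (nat_lit 40) z1 u (Nat.mod (MG u) M)) (Nat.ble (nat_lit 195) j)) (Bool.rec (motive := fun _ => Bool) (mRel MG [T_fi, T_bi, T_fi, T_bi] [T_b, T_fi, T_bi, T_bi, T_fi, T_bi, T_bi, T_fi] M (Nat.sub (MG u) (Nat.mod (MG u) M)) (nat_lit 40) z1 u (Nat.mod (MG u) M)) (Bool.rec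 (motive := fun _ => Bool) (mRel MG [T_bi] [T_b, T_f, T_b, T_b, T_f, T_bi, T_fi, T_bi, T_fi, T_bi, T_f] M (Nat.sub (MG u) (Nat.mod (MG u) M)) (nat_lit 40) z1 u (Nat.mod (MG u) M)) (mRel MG [T_f, T_g, T_fi, T_gi, T_fi, T_bi, T_fi, T_bi, T_bi, T_g] [T_bi, T_fi] M (Nat.sub (MG u) (Nat.mod (MG u) M)) (nat_lit 40) z1 u (Nat.mod (MG u) M)) (Nat.ble (nat_lit 198) j)) (Nat.ble (nat_lit 197) j)) (Nat.ble (nat_lit 196) j)) (Bool.rec (motive := fun _ => Bool) (Bool.rec (motive := fun _ => Bool) (mRel MG [T_f, T_bi, T_fi, T_b, T_f] [T_g, T_f, T_g, T_bi, T_f, T_b, T_g] M (Nat.sub (MG u) (Nat.mod (MG u) M)) (nat_lit 40) z1 u (Nat.mod (MG u) M)) (mRel MG [T_bi, T_fi, T_bi, T_bi] [T_b, T_f, T_bi, T_fi, T_bi, T_fi, T_bi, T_f] M (Nat.sub (MG u) (Nat.mod (MG u) M)) (nat_lit 40) z1 u (Nat.mod (MG u) M)) (Nat.ble (nat_lit 200) j)) (Bool.rec (motive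 := fun _ => Bool) (mRel MG [T_f, T_b, T_f, T_b, T_fi, T_bi] [T_bi, T_f, T_b, T_b, T_f, T_b] M (Nat.sub (MG u) (Nat.mod (MG u) M)) (nat_lit 40) z1 u (Nat.mod (MG u) M)) (Bool.rec (motive := fun _ => Bool) (mRel MG [T_g, T_f, T_g, T_bi] [T_f, T_bi, T_fi, T_b, T_f, T_gi, T_bi, T_fi] M (Nat.sub (MG u) (Nat.mod (MG u) M)) (nat_lit 40) z1 u (Nat.mod (MG u) M)) (mRel MG [T_ni, T_ni] [T_zi] M (Nat.sub (MG u) (Nat.mod (MG u) M)) (nat_lit 40) z1 u (Nat.mod (MG u) M)) (Nat.ble (nat_lit 203) j)) (Nat.ble (nat_lit 202) j)) (Nat.ble (nat_lit 201) j)) (Nat.ble (nat_lit 199) j)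
noncomputable def dM_40 (j z1 z2 u : ℕ) : Bool :=
  Bool.rec (motive := fun _ => Bool) (Bool.rec (motive := fun _ => Bool) (Bool.rec (motive := fun _ => Bool) (mRel MG [T_bi, T_bi, T_g, T_f, T_b] [T_f, T_b, T_f, T_g, T_f, T_gi, T_fi] M (Nat.sub (MG u) (Nat.mod (MG u) M)) (nat_lit 40) z1 u (Nat.mod (MG u) M)) (mRel MG [T_bi, T_bi, T_fi, T_b, T_f, T_b] [T_f, T_b, T_b, T_f, T_bi, T_fi] M (Nat.sub (MG u) (Nat.mod (MG u) M)) (nat_lit 40) z1 u (Nat.mod (MG u) M)) (Nat.ble (nat_lit 205) j)) (Bool.rec (motive := fun _ => Bool) (mRel MG [T_bi, T_f, T_b, T_b, T_f, T_b, T_b, T_f, T_bi] [T_f, T_b, T_f] M (Nat.sub (MG u) (Nat.mod (MG u) M)) (nat_lit 40) z1 u (Nat.mod (MG u) M)) (Bool.rec (motive := fun _ => Bool) (mRel MG [T_bi, T_f, T_b, T_g, T_fi, T_bi] [T_gi, T_fi, T_gi, T_f, T_bi, T_fi] M (Nat.sub (MG u) (Nat.mod (MG u) M)) (nat_lit 40)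 z1 u (Nat.mod (MG u) M)) (mRel MG [T_gi, T_fi, T_bi, T_fi, T_bi, T_bi] [T_f, T_gi, T_fi, T_bi, T_fi, T_gi] M (Nat.sub (MG u) (Nat.mod (MG u) M)) (nat_lit 40) z1 u (Nat.mod (MG u) M)) (Nat.ble (nat_lit 208) j)) (Nat.ble (nat_lit 207) j)) (Nat.ble (nat_lit 206) j)) (Bool.rec (motive := fun _ => Bool) (Bool.rec (motive := fun _ => Bool) (mRel MG [T_b, T_f, T_g, T_fi, T_gi, T_fi, T_bi, T_fi, T_bi, T_bi] [T_fi, T_gi] M (Nat.sub (MG u) (Nat.mod (MG u) M)) (nat_lit 40) z1 u (Nat.mod (MG u) M)) (Bool.rec (motive := fun _ => Bool) (mRel MG [T_bi] [T_b, T_b, T_gi, T_bi, T_g] M (Nat.sub (MG u) (Nat.mod (MG u) M)) (nat_lit 40) z1 u (Nat.mod (MG u) M)) (mRel MG [T_bi, T_f, T_b, T_b, T_f, T_b, T_b] [T_f, T_b, T_f, T_b, T_fi] M (Nat.sub (MG u) (Nat.mod (MG u) M)) (nat_lit 40) z1 u (Nat.mod (MG u) M)) (Nat.ble (nat_lit 211) j)) (Nat.ble (nat_lit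 210) j)) (Bool.rec (motive := fun _ => Bool) (mRel MG [T_bi, T_fi, T_bi, T_f] [T_f, T_b, T_fi, T_bi, T_bi, T_fi, T_bi, T_bi] M (Nat.sub (MG u) (Nat.mod (MG u) M)) (nat_lit 40) z1 u (Nat.mod (MG u) M)) (Bool.rec (motive := fun _ => Bool) (mRel MG [T_b, T_g, T_fi, T_bi, T_f, T_b, T_fi, T_g, T_f, T_g] [T_fi, T_b] M (Nat.sub (MG u) (Nat.mod (MG u) M)) (nat_lit 40) z1 u (Nat.mod (MG u) M)) (mRel MG [T_b] [T_fi, T_b, T_f, T_gi, T_bi, T_fi, T_b, T_gi, T_fi, T_gi, T_f] M (Nat.sub (MG u) (Nat.mod (MG u) M)) (nat_lit 40) z1 u (Nat.mod (MG u) M)) (Nat.ble (nat_lit 214) j)) (Nat.ble (nat_lit 213) j)) (Nat.ble (nat_lit 212) j)) (Nat.ble (nat_lit 209) j)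
noncomputable def dM_41 (j z1 z2 u : ℕ) : Bool :=
  Bool.rec (motive := fun _ => Bool) (dM_39 j z1 z2 u) (dM_40 j z1 z2 u) (Nat.ble (nat_lit 204) j)
noncomputable def dM_42 (j z1 z2 u : ℕ) : Bool :=
  Bool.rec (motive := fun _ => Bool) (dM_38 j z1 z2 u) (dM_41 j z1 z2 u) (Nat.ble (nat_lit 194) j)
noncomputable def dM_43 (j z1 z2 u : ℕ) : Bool :=
  Bool.rec (motive := fun _ => Bool) (dM_35 j z1 z2 u) (dM_42 j z1 z2 u) (Nat.ble (nat_lit 173) j)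
noncomputable def dM_44 (j z1 z2 u : ℕ) : Bool :=
  Bool.rec (motive := fun _ => Bool) (dM_30 j z1 z2 u) (dM_43 j z1 z2 u) (Nat.ble (nat_lit 148) j)
noncomputable def dM_45 (j z1 z2 u : ℕ) : Bool :=
  Bool.rec (motive := fun _ => Bool) (Bool.rec (motive := fun _ => Bool) (Bool.rec (motive := fun _ => Bool) (mRel MG [T_bi, T_bi, T_fi] [T_f, T_b, T_b, T_f, T_bi, T_fi, T_bi, T_fi, T_bi] M (Nat.sub (MG u) (Nat.mod (MG u) M)) (nat_lit 40) z1 u (Nat.mod (MG u) M)) (mRel MG [T_b, T_g, T_bi] [T_g, T_b, T_b] M (Nat.sub (MG u) (Nat.mod (MG u) M)) (nat_lit 40) z1 u (Nat.mod (MG u) M)) (Nat.ble (nat_lit 216) j)) (Bool.rec (motive := fun _ => Bool) (mRel MG [T_gi, T_f, T_bi, T_fi, T_b, T_f, T_gi, T_bi] [T_f, T_g, T_bi, T_f] M (Nat.sub (MG u) (Nat.mod (MG u) M)) (nat_lit 40) z1 u (Nat.mod (MG u) M)) (Bool.rec (motive := fun _ => Bool) (mRel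 MG [T_bi, T_fi, T_bi, T_fi, T_bi, T_f, T_b] [T_fi, T_bi, T_bi, T_fi, T_bi] M (Nat.sub (MG u) (Nat.mod (MG u) M)) (nat_lit 40) z1 u (Nat.mod (MG u) M)) (mRel MG [T_fi, T_gi, T_fi, T_bi, T_fi, T_bi, T_bi, T_g, T_f, T_b] [T_gi, T_fi] M (Nat.sub (MG u) (Nat.mod (MG u) M)) (nat_lit 40) z1 u (Nat.mod (MG u) M)) (Nat.ble (nat_lit 219) j)) (Nat.ble (nat_lit 218) j)) (Nat.ble (nat_lit 217) j)) (Bool.rec (motive := fun _ => Bool) (Bool.rec (motive := fun _ => Bool) (mRel MG [T_fi, T_gi, T_b, T_b, T_f, T_b] [T_b, T_f, T_g, T_fi, T_gi, T_fi] M (Nat.sub (MG u) (Nat.mod (MG u) M)) (nat_lit 40) z1 u (Nat.mod (MG u) M)) (mRel MG [T_bi] [T_fi, T_bi, T_bi, T_fi, T_bi, T_bi, T_fi, T_b, T_f, T_b, T_f] M (Nat.sub (MG u) (Nat.mod (MG u) M)) (nat_lit 40) z1 u (Nat.mod (MG u) M)) (Nat.ble (nat_lit 221) j)) (Bool.rec (motive := fun _ => Bool) (mRel MG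 [T_n, T_g, T_n, T_g, T_n] [T_gi] M (Nat.sub (MG u) (Nat.mod (MG u) M)) (nat_lit 40) z1 u (Nat.mod (MG u) M)) (Bool.rec (motive := fun _ => Bool) (mRel MG [T_f, T_g, T_f, T_gi] [T_bi, T_fi, T_bi, T_bi, T_g, T_f, T_b, T_f] M (Nat.sub (MG u) (Nat.mod (MG u) M)) (nat_lit 40) z1 u (Nat.mod (MG u) M)) (mRel MG [T_fi, T_bi, T_fi, T_bi, T_f, T_b, T_b, T_f, T_b, T_b] [T_b, T_fi] M (Nat.sub (MG u) (Nat.mod (MG u) M)) (nat_lit 40) z1 u (Nat.mod (MG u) M)) (Nat.ble (nat_lit 224) j)) (Nat.ble (nat_lit 223) j)) (Nat.ble (nat_lit 222) j)) (Nat.ble (nat_lit 220) j)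
noncomputable def dM_46 (j z1 z2 u : ℕ) : Bool :=
  Bool.rec (motive := fun _ => Bool) (Bool.rec (motive := fun _ => Bool) (Bool.rec (motive := fun _ => Bool) (mRel MG [T_fi, T_bi, T_fi] [T_b, T_fi, T_bi, T_bi, T_fi, T_bi, T_bi, T_fi, T_b] M (Nat.sub (MG u) (Nat.mod (MG u) M)) (nat_lit 40) z1 u (Nat.mod (MG u) M)) (mRel MG [T_fi, T_bi, T_bi, T_fi, T_bi, T_bi, T_fi] [T_bi, T_fi, T_bi, T_fi, T_bi] M (Nat.sub (MG u) (Nat.mod (MG u) M)) (nat_lit 40) z1 u (Nat.mod (MG u) M)) (Nat.ble (nat_lit 226) j)) (Bool.rec (motive := fun _ => Bool) (mRel MG [T_b, T_g, T_fi, T_bi, T_f] [T_fi, T_b, T_gi, T_fi, T_gi, T_f, T_bi] M (Nat.sub (MG u) (Nat.mod (MG u) M)) (nat_lit 40) z1 u (Nat.mod (MG u) M)) (Bool.rec (motive := fun _ => Bool) (mRel MG [T_fi, T_b, T_f, T_b, T_f, T_b, T_fi] [T_b, T_b, T_f, T_b, T_b] M (Nat.sub (MG u) (Nat.mod (MG u) M))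 (nat_lit 40) z1 u (Nat.mod (MG u) M)) (mRel MG [T_b, T_b, T_f, T_b, T_b, T_f, T_bi] [T_fi, T_b, T_f, T_b, T_f] M (Nat.sub (MG u) (Nat.mod (MG u) M)) (nat_lit 40) z1 u (Nat.mod (MG u) M)) (Nat.ble (nat_lit 229) j)) (Nat.ble (nat_lit 228) j)) (Nat.ble (nat_lit 227) j)) (Bool.rec (motive := fun _ => Bool) (Bool.rec (motive := fun _ => Bool) (mRel MG [T_g] [T_fi, T_bi, T_fi, T_bi, T_bi, T_g, T_f, T_b, T_f, T_g, T_fi] M (Nat.sub (MG u) (Nat.mod (MG u) M)) (nat_lit 40) z1 u (Nat.mod (MG u) M)) (mRel MG [T_bi, T_g, T_b, T_b] [T_g, T_bi] M (Nat.sub (MG u) (Nat.mod (MG u) M)) (nat_lit 40) z1 u (Nat.mod (MG u) M)) (Nat.ble (nat_lit 231) j)) (Bool.rec (motive := fun _ => Bool) (mRel MG [T_g, T_f, T_g, T_bi, T_f, T_b, T_g, T_fi, T_bi] [T_f, T_bi, T_fi] M (Nat.sub (MG u) (Nat.mod (MG u) M)) (nat_lit 40) z1 u (Nat.mod (MG u) M)) (Bool.rec (motive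 := fun _ => Bool) (mRel MG [T_b, T_f, T_b, T_fi, T_bi, T_bi] [T_fi, T_bi, T_f, T_b, T_b, T_f] M (Nat.sub (MG u) (Nat.mod (MG u) M)) (nat_lit 40) z1 u (Nat.mod (MG u) M)) (mRel MG [T_b, T_fi, T_bi, T_bi, T_fi, T_bi, T_bi] [T_fi, T_bi, T_fi, T_bi, T_f] M (Nat.sub (MG u) (Nat.mod (MG u) M)) (nat_lit 40) z1 u (Nat.mod (MG u) M)) (Nat.ble (nat_lit 234) j)) (Nat.ble (nat_lit 233) j)) (Nat.ble (nat_lit 232) j)) (Nat.ble (nat_lit 230) j)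
noncomputable def dM_47 (j z1 z2 u : ℕ) : Bool :=
  Bool.rec (motive := fun _ => Bool) (dM_45 j z1 z2 u) (dM_46 j z1 z2 u) (Nat.ble (nat_lit 225) j)
noncomputable def dM_48 (j z1 z2 u : ℕ) : Bool :=
  Bool.rec (motive := fun _ => Bool) (Bool.rec (motive := fun _ => Bool) (Bool.rec (motive := fun _ => Bool) (mRel MG [T_gi, T_b, T_b] [T_f, T_b, T_f, T_g, T_fi, T_gi, T_fi, T_bi, T_fi] M (Nat.sub (MG u) (Nat.mod (MG u) M)) (nat_lit 40) z1 u (Nat.mod (MG u) M)) (mRel MG [T_fi, T_bi, T_fi, T_bi, T_f, T_b] [T_b, T_fi, T_bi, T_bi, T_fi, T_bi] M (Nat.sub (MG u) (Nat.mod (MG u) M)) (nat_lit 40) z1 u (Nat.mod (MG u) M)) (Nat.ble (nat_lit 236) j)) (Bool.rec (motive := fun _ => Bool) (mRel MG [T_b, T_f, T_b, T_f, T_b, T_fi, T_bi, T_bi, T_fi, T_bi, T_bi] [T_f] M (Nat.sub (MG u) (Nat.mod (MG u) M)) (nat_lit 40) z1 u (Nat.mod (MG u) M)) (Bool.rec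 (motive := fun _ => Bool) (mRel MG [T_b, T_f, T_b, T_b, T_f, T_bi, T_fi] [T_bi, T_fi, T_b, T_f, T_b] M (Nat.sub (MG u) (Nat.mod (MG u) M)) (nat_lit 40) z1 u (Nat.mod (MG u) M)) (mRel MG [T_b, T_f, T_b, T_fi, T_bi, T_bi, T_fi, T_bi, T_bi, T_fi] [T_fi, T_bi] M (Nat.sub (MG u) (Nat.mod (MG u) M)) (nat_lit 40) z1 u (Nat.mod (MG u) M)) (Nat.ble (nat_lit 239) j)) (Nat.ble (nat_lit 238) j)) (Nat.ble (nat_lit 237) j)) (Bool.rec (motive := fun _ => Bool) (Bool.rec (motive := fun _ => Bool) (mRel MG [T_f] [T_gi, T_f, T_bi, T_fi, T_b, T_f, T_gi, T_bi, T_fi, T_b, T_gi] M (Nat.sub (MG u) (Nat.mod (MG u) M)) (nat_lit 40) z1 u (Nat.mod (MG u) M)) (mRel MG [T_b] [T_bi, T_fi, T_bi, T_bi, T_fi, T_b, T_f, T_b, T_f, T_b, T_fi] M (Nat.sub (MG u) (Nat.mod (MG u) M)) (nat_lit 40) z1 u (Nat.mod (MG u) M)) (Nat.ble (nat_lit 241) j)) (Bool.rec (motive :=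 fun _ => Bool) (mRel MG [T_f, T_g, T_f, T_gi, T_fi, T_bi, T_fi, T_gi, T_b, T_b, T_f] [T_bi] M (Nat.sub (MG u) (Nat.mod (MG u) M)) (nat_lit 40) z1 u (Nat.mod (MG u) M)) (Bool.rec (motive := fun _ => Bool) (mRel MG [T_bi, T_bi, T_g, T_f] [T_f, T_b, T_f, T_g, T_f, T_gi, T_fi, T_bi] M (Nat.sub (MG u) (Nat.mod (MG u) M)) (nat_lit 40) z1 u (Nat.mod (MG u) M)) (mRel MG [T_b, T_gi] [T_f, T_b, T_g, T_fi, T_bi, T_f, T_b, T_fi, T_g, T_f] M (Nat.sub (MG u) (Nat.mod (MG u) M)) (nat_lit 40) z1 u (Nat.mod (MG u) M)) (Nat.ble (nat_lit 244) j)) (Nat.ble (nat_lit 243) j)) (Nat.ble (nat_lit 242) j)) (Nat.ble (nat_lit 240) j)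
noncomputable def dM_49 (j z1 z2 u : ℕ) : Bool :=
  Bool.rec (motive := fun _ => Bool) (Bool.rec (motive := fun _ => Bool) (Bool.rec (motive := fun _ => Bool) (mRel MG [T_fi, T_b] [T_b, T_b, T_f, T_b, T_b, T_f, T_bi, T_fi, T_bi, T_fi] M (Nat.sub (MG u) (Nat.mod (MG u) M)) (nat_lit 40) z1 u (Nat.mod (MG u) M)) (mRel MG [T_bi, T_fi, T_b, T_f, T_b, T_f, T_b, T_fi] [T_b, T_f, T_b, T_b] M (Nat.sub (MG u) (Nat.mod (MG u) M)) (nat_lit 40) z1 u (Nat.mod (MG u) M)) (Nat.ble (nat_lit 246) j)) (Bool.rec (motive := fun _ => Bool) (mRel MG [T_bi, T_bi, T_g, T_f, T_b, T_f, T_g, T_fi, T_gi, T_fi, T_bi] [T_f] M (Nat.sub (MG u) (Nat.mod (MG u) M)) (nat_lit 40) z1 u (Nat.mod (MG u) M)) (Bool.rec (motive := fun _ => Bool) (mRel MG [T_b, T_b] [T_fi, T_bi, T_bi, T_fi, T_b, T_f, T_b, T_f, T_b, T_fi] M (Nat.sub (MG u) (Nat.mod (MG u) M)) (nat_lit 40)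 z1 u (Nat.mod (MG u) M)) (mRel MG [T_n, T_b] [T_b, T_n] M (Nat.sub (MG u) (Nat.mod (MG u) M)) (nat_lit 40) z1 u (Nat.mod (MG u) M)) (Nat.ble (nat_lit 249) j)) (Nat.ble (nat_lit 248) j)) (Nat.ble (nat_lit 247) j)) (Bool.rec (motive := fun _ => Bool) (Bool.rec (motive := fun _ => Bool) (mRel MG [T_fi] [T_n, T_f, T_ni] M (Nat.sub (MG u) (Nat.mod (MG u) M)) (nat_lit 40) z1 u (Nat.mod (MG u) M)) (Bool.rec (motive := fun _ => Bool) (mRel MG [T_fi] [T_gi, T_fi, T_bi, T_fi, T_gi, T_b, T_b, T_f, T_b, T_f, T_g] M (Nat.sub (MG u) (Nat.mod (MG u) M)) (nat_lit 40) z1 u (Nat.mod (MG u) M)) (mRel MG [T_b, T_f, T_g, T_fi, T_gi, T_fi] [T_fi, T_gi, T_b, T_b, T_f, T_b] M (Nat.sub (MG u) (Nat.mod (MG u) M)) (nat_lit 40) z1 u (Nat.mod (MG u) M)) (Nat.ble (nat_lit 252) j)) (Nat.ble (nat_lit 251) j)) (Bool.rec (motive := fun _ => Bool) (mRel MG [T_bi,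 T_f, T_b, T_fi, T_g, T_f, T_g, T_bi] [T_f, T_gi, T_bi, T_fi] M (Nat.sub (MG u) (Nat.mod (MG u) M)) (nat_lit 40) z1 u (Nat.mod (MG u) M)) (Bool.rec (motive := fun _ => Bool) (mRel MG [T_gi, T_b, T_b, T_f, T_b, T_f, T_g, T_f, T_gi, T_fi] [T_f, T_b] M (Nat.sub (MG u) (Nat.mod (MG u) M)) (nat_lit 40) z1 u (Nat.mod (MG u) M)) (mRel MG [T_f, T_bi, T_fi] [T_bi, T_bi, T_fi, T_bi, T_bi, T_fi, T_b, T_f, T_b] M (Nat.sub (MG u) (Nat.mod (MG u) M)) (nat_lit 40) z1 u (Nat.mod (MG u) M)) (Nat.ble (nat_lit 255) j)) (Nat.ble (nat_lit 254) j)) (Nat.ble (nat_lit 253) j)) (Nat.ble (nat_lit 250) j)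
noncomputable def dM_50 (j z1 z2 u : ℕ) : Bool :=
  Bool.rec (motive := fun _ => Bool) (dM_48 j z1 z2 u) (dM_49 j z1 z2 u) (Nat.ble (nat_lit 245) j)
noncomputable def dM_51 (j z1 z2 u : ℕ) : Bool :=
  Bool.rec (motive := fun _ => Bool) (dM_47 j z1 z2 u) (dM_50 j z1 z2 u) (Nat.ble (nat_lit 235) j)
noncomputable def dM_52 (j z1 z2 u : ℕ) : Bool :=
  Bool.rec (motive := fun _ => Bool) (Bool.rec (motive := fun _ => Bool) (Bool.rec (motive := fun _ => Bool) (mRel MG [T_bi, T_fi, T_bi, T_bi, T_g, T_f, T_b, T_f, T_g] [T_f, T_g, T_f] M (Nat.sub (MG u) (Nat.mod (MG u) M)) (nat_lit 40) z1 u (Nat.mod (MG u) M)) (mRel MG [T_bi, T_gi, T_b, T_g, T_bi, T_bi] [] M (Nat.sub (MG u) (Nat.mod (MG u) M)) (nat_lit 40) z1 u (Nat.mod (MG u) M)) (Nat.ble (nat_lit 257) j)) (Bool.rec (motive := fun _ => Bool) (mRel MG [T_f] [T_b, T_gi, T_fi, T_gi, T_f, T_bi,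 T_fi, T_b, T_f, T_gi, T_bi] M (Nat.sub (MG u) (Nat.mod (MG u) M)) (nat_lit 40) z1 u (Nat.mod (MG u) M)) (Bool.rec (motive := fun _ => Bool) (mRel MG [T_g] [T_fi, T_gi, T_f, T_bi, T_fi, T_b, T_f, T_gi, T_bi, T_fi, T_b] M (Nat.sub (MG u) (Nat.mod (MG u) M)) (nat_lit 40) z1 u (Nat.mod (MG u) M)) (mRel MG [T_bi, T_f, T_b, T_g, T_fi, T_bi, T_f, T_b, T_fi, T_g, T_f] [T_gi] M (Nat.sub (MG u) (Nat.mod (MG u) M)) (nat_lit 40) z1 u (Nat.mod (MG u) M)) (Nat.ble (nat_lit 260) j)) (Nat.ble (nat_lit 259) j)) (Nat.ble (nat_lit 258) j)) (Bool.rec (motive := fun _ => Bool) (Bool.rec (motive := fun _ => Bool) (mRel MG [T_bi, T_fi, T_gi, T_b, T_b, T_f, T_b, T_f, T_g, T_f, T_gi, T_fi] [] M (Nat.sub (MG u) (Nat.mod (MG u) M)) (nat_lit 40) z1 u (Nat.mod (MG u) M)) (mRel MG [T_g, T_bi, T_f] [T_fi, T_gi, T_f, T_bi, T_fi, T_b, T_f, T_gi, T_bi] M (Nat.sub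 (MG u) (Nat.mod (MG u) M)) (nat_lit 40) z1 u (Nat.mod (MG u) M)) (Nat.ble (nat_lit 262) j)) (Bool.rec (motive := fun _ => Bool) (mRel MG [T_bi, T_f, T_b, T_b, T_f, T_b, T_b, T_f] [T_f, T_b, T_f, T_b] M (Nat.sub (MG u) (Nat.mod (MG u) M)) (nat_lit 40) z1 u (Nat.mod (MG u) M)) (Bool.rec (motive := fun _ => Bool) (mRel MG [T_gi] [T_f, T_gi, T_fi, T_bi, T_fi, T_gi, T_b, T_b, T_f, T_b, T_f] M (Nat.sub (MG u) (Nat.mod (MG u) M)) (nat_lit 40) z1 u (Nat.mod (MG u) M)) (mRel MG [T_bi, T_gi, T_b, T_g, T_bi] [T_b] M (Nat.sub (MG u) (Nat.mod (MG u) M)) (nat_lit 40) z1 u (Nat.mod (MG u) M)) (Nat.ble (nat_lit 265) j)) (Nat.ble (nat_lit 264) j)) (Nat.ble (nat_lit 263) j)) (Nat.ble (nat_lit 261) j)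
noncomputable def dM_53 (j z1 z2 u : ℕ) : Bool :=
  Bool.rec (motive := fun _ => Bool) (Bool.rec (motive := fun _ => Bool) (Bool.rec (motive := fun _ => Bool) (mRel MG [T_fi, T_bi, T_bi, T_fi, T_bi, T_bi, T_fi, T_b, T_f] [T_bi, T_fi, T_bi] M (Nat.sub (MG u) (Nat.mod (MG u) M)) (nat_lit 40) z1 u (Nat.mod (MG u) M)) (mRel MG [T_n, T_f] [T_fi, T_n] M (Nat.sub (MG u) (Nat.mod (MG u) M)) (nat_lit 40) z1 u (Nat.mod (MG u) M)) (Nat.ble (nat_lit 267) j)) (Bool.rec (motive := fun _ => Bool) (mRel MG [T_f, T_b, T_b, T_f, T_b, T_b, T_f, T_bi] [T_b, T_f, T_b, T_f] M (Nat.sub (MG u) (Nat.mod (MG u) M)) (nat_lit 40) z1 u (Nat.mod (MG u) M)) (Bool.rec (motive := fun _ => Bool) (mRel MG [T_f, T_b, T_g, T_fi] [T_b, T_gi, T_fi, T_gi, T_f, T_bi, T_fi, T_b] M (Nat.sub (MG u) (Nat.mod (MG u) M)) (nat_lit 40) z1 u (Nat.mod (MG u) M)) (mRel MG [T_bi,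 T_fi, T_b, T_f, T_gi, T_bi, T_fi, T_b] [T_fi, T_g, T_f, T_g] M (Nat.sub (MG u) (Nat.mod (MG u) M)) (nat_lit 40) z1 u (Nat.mod (MG u) M)) (Nat.ble (nat_lit 270) j)) (Nat.ble (nat_lit 269) j)) (Nat.ble (nat_lit 268) j)) (Bool.rec (motive := fun _ => Bool) (Bool.rec (motive := fun _ => Bool) (mRel MG [T_b] [T_fi, T_b, T_gi, T_fi, T_gi, T_f, T_bi, T_fi, T_b, T_f, T_gi] M (Nat.sub (MG u) (Nat.mod (MG u) M)) (nat_lit 40) z1 u (Nat.mod (MG u) M)) (Bool.rec (motive := fun _ => Bool) (mRel MG [T_f, T_b] [T_bi, T_fi, T_bi, T_f, T_b, T_b, T_f, T_b, T_b, T_f] M (Nat.sub (MG u) (Nat.mod (MG u) M)) (nat_lit 40) z1 u (Nat.mod (MG u) M)) (mRel MG [T_gi] [T_fi, T_bi, T_f, T_b, T_fi, T_g, T_f, T_g, T_bi, T_f, T_b] M (Nat.sub (MG u) (Nat.mod (MG u) M)) (nat_lit 40) z1 u (Nat.mod (MG u) M)) (Nat.ble (nat_lit 273) j)) (Nat.ble (nat_lit 272) j)) (Bool.rec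 (motive := fun _ => Bool) (mRel MG [T_f, T_b, T_f, T_g] [T_gi, T_b, T_b, T_f, T_b, T_f, T_g, T_f] M (Nat.sub (MG u) (Nat.mod (MG u) M)) (nat_lit 40) z1 u (Nat.mod (MG u) M)) (Bool.rec (motive := fun _ => Bool) (mRel MG [T_fi] [T_b, T_g, T_fi, T_bi, T_f, T_b, T_fi, T_g, T_f, T_g, T_bi] M (Nat.sub (MG u) (Nat.mod (MG u) M)) (nat_lit 40) z1 u (Nat.mod (MG u) M)) (mRel MG [T_f, T_g, T_f, T_gi, T_fi, T_bi, T_fi, T_gi, T_b] [T_bi, T_fi, T_bi] M (Nat.sub (MG u) (Nat.mod (MG u) M)) (nat_lit 40) z1 u (Nat.mod (MG u) M)) (Nat.ble (nat_lit 276) j)) (Nat.ble (nat_lit 275) j)) (Nat.ble (nat_lit 274) j)) (Nat.ble (nat_lit 271) j)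
noncomputable def dM_54 (j z1 z2 u : ℕ) : Bool :=
  Bool.rec (motive := fun _ => Bool) (dM_52 j z1 z2 u) (dM_53 j z1 z2 u) (Nat.ble (nat_lit 266) j)
noncomputable def dM_55 (j z1 z2 u : ℕ) : Bool :=
  Bool.rec (motive := fun _ => Bool) (Bool.rec (motive := fun _ => Bool) (Bool.rec (motive := fun _ => Bool) (mRel MG [T_b] [T_fi, T_bi, T_fi, T_bi, T_f, T_b, T_b, T_f, T_b, T_b, T_f] M (Nat.sub (MG u) (Nat.mod (MG u) M)) (nat_lit 40) z1 u (Nat.mod (MG u) M)) (mRel MG [T_ni, T_gi, T_ni, T_gi, T_ni, T_gi] [] M (Nat.sub (MG u) (Nat.mod (MG u) M)) (nat_lit 40) z1 u (Nat.mod (MG u) M)) (Nat.ble (nat_lit 278) j)) (Bool.rec (motive := fun _ => Bool) (mRel MG [T_bi, T_fi, T_bi, T_bi, T_g, T_f, T_b] [T_f, T_g, T_f, T_gi, T_fi] M (Nat.sub (MG u) (Nat.mod (MG u) M)) (nat_lit 40) z1 u (Nat.mod (MG u) M)) (Bool.rec (motive := fun _ => Bool) (mRel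 MG [T_fi, T_bi] [T_g, T_fi, T_gi, T_fi, T_bi, T_fi, T_bi, T_bi, T_g, T_f] M (Nat.sub (MG u) (Nat.mod (MG u) M)) (nat_lit 40) z1 u (Nat.mod (MG u) M)) (mRel MG [T_fi, T_bi, T_bi, T_g, T_f, T_b, T_f, T_g] [T_b, T_f, T_g, T_f] M (Nat.sub (MG u) (Nat.mod (MG u) M)) (nat_lit 40) z1 u (Nat.mod (MG u) M)) (Nat.ble (nat_lit 281) j)) (Nat.ble (nat_lit 280) j)) (Nat.ble (nat_lit 279) j)) (Bool.rec (motive := fun _ => Bool) (Bool.rec (motive := fun _ => Bool) (mRel MG [T_bi, T_fi] [T_g, T_fi, T_bi, T_f, T_b, T_fi, T_g, T_f, T_g, T_bi] M (Nat.sub (MG u) (Nat.mod (MG u) M)) (nat_lit 40) z1 u (Nat.mod (MG u) M)) (mRel MG [T_bi, T_f, T_b, T_b] [T_f, T_b, T_f, T_b, T_fi, T_bi, T_bi, T_fi] M (Nat.sub (MG u) (Nat.mod (MG u) M)) (nat_lit 40) z1 u (Nat.mod (MG u) M)) (Nat.ble (nat_lit 283) j)) (Bool.rec (motive := fun _ => Bool) (mRel MG [T_bi, T_bi,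 T_fi, T_b, T_f, T_b, T_f, T_b, T_fi] [T_f, T_b, T_b] M (Nat.sub (MG u) (Nat.mod (MG u) M)) (nat_lit 40) z1 u (Nat.mod (MG u) M)) (Bool.rec (motive := fun _ => Bool) (mRel MG [T_bi, T_bi, T_fi, T_b, T_f, T_b, T_f] [T_f, T_b, T_b, T_f, T_bi] M (Nat.sub (MG u) (Nat.mod (MG u) M)) (nat_lit 40) z1 u (Nat.mod (MG u) M)) (mRel MG [T_f, T_g, T_fi, T_gi, T_fi] [T_bi, T_fi, T_gi, T_b, T_b, T_f, T_b] M (Nat.sub (MG u) (Nat.mod (MG u) M)) (nat_lit 40) z1 u (Nat.mod (MG u) M)) (Nat.ble (nat_lit 286) j)) (Nat.ble (nat_lit 285) j)) (Nat.ble (nat_lit 284) j)) (Nat.ble (nat_lit 282) j)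
noncomputable def dM_56 (j z1 z2 u : ℕ) : Bool :=
  Bool.rec (motive := fun _ => Bool) (Bool.rec (motive := fun _ => Bool) (Bool.rec (motive := fun _ => Bool) (mRel MG [T_g, T_b] [T_b, T_g, T_bi, T_bi] M (Nat.sub (MG u) (Nat.mod (MG u) M)) (nat_lit 40) z1 u (Nat.mod (MG u) M)) (mRel MG [T_bi] [T_f, T_gi, T_bi, T_fi, T_b, T_gi, T_fi, T_gi, T_f, T_bi, T_fi] M (Nat.sub (MG u) (Nat.mod (MG u) M)) (nat_lit 40) z1 u (Nat.mod (MG u) M)) (Nat.ble (nat_lit 288) j)) (Bool.rec (motive := fun _ => Bool) (mRel MG [T_g, T_b, T_b] [T_b, T_g, T_bi] M (Nat.sub (MG u) (Nat.mod (MG u) M)) (nat_lit 40) z1 u (Nat.mod (MG u) M)) (Bool.rec (motive := fun _ => Bool) (mRel MG [T_fi, T_bi] [T_g, T_f, T_gi, T_fi, T_bi, T_fi, T_gi, T_b, T_b, T_f] M (Nat.sub (MG u) (Nat.mod (MG u) M)) (nat_lit 40) z1 u (Nat.mod (MG u) M)) (mRel MG [T_bi, T_fi, T_bi, T_fi]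 [T_fi, T_bi, T_bi, T_fi, T_bi, T_bi, T_fi, T_b] M (Nat.sub (MG u) (Nat.mod (MG u) M)) (nat_lit 40) z1 u (Nat.mod (MG u) M)) (Nat.ble (nat_lit 291) j)) (Nat.ble (nat_lit 290) j)) (Nat.ble (nat_lit 289) j)) (Bool.rec (motive := fun _ => Bool) (Bool.rec (motive := fun _ => Bool) (mRel MG [T_g, T_bi, T_f, T_b, T_g, T_fi, T_bi, T_f, T_b, T_fi, T_g] [T_fi] M (Nat.sub (MG u) (Nat.mod (MG u) M)) (nat_lit 40) z1 u (Nat.mod (MG u) M)) (Bool.rec (motive := fun _ => Bool) (mRel MG [T_f, T_g] [T_bi, T_fi, T_bi, T_bi, T_g, T_f, T_b, T_f, T_g, T_fi] M (Nat.sub (MG u) (Nat.mod (MG u) M)) (nat_lit 40) z1 u (Nat.mod (MG u) M)) (mRel MG [T_b, T_gi, T_fi, T_gi, T_f, T_bi, T_fi, T_b, T_f, T_gi, T_bi] [T_f] M (Nat.sub (MG u) (Nat.mod (MG u) M)) (nat_lit 40) z1 u (Nat.mod (MG u) M)) (Nat.ble (nat_lit 294) j)) (Nat.ble (nat_lit 293) j)) (Bool.rec (motive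 := fun _ => Bool) (mRel MG [T_b, T_g, T_fi, T_bi, T_f, T_b, T_fi, T_g] [T_fi, T_b, T_gi, T_fi] M (Nat.sub (MG u) (Nat.mod (MG u) M)) (nat_lit 40) z1 u (Nat.mod (MG u) M)) (Bool.rec (motive := fun _ => Bool) (mRel MG [T_gi, T_b, T_b, T_f, T_b] [T_f, T_b, T_f, T_g, T_fi, T_gi, T_fi] M (Nat.sub (MG u) (Nat.mod (MG u) M)) (nat_lit 40) z1 u (Nat.mod (MG u) M)) (mRel MG [T_b, T_f, T_gi, T_bi, T_fi] [T_f, T_b, T_fi, T_g, T_f, T_g, T_bi] M (Nat.sub (MG u) (Nat.mod (MG u) M)) (nat_lit 40) z1 u (Nat.mod (MG u) M)) (Nat.ble (nat_lit 297) j)) (Nat.ble (nat_lit 296) j)) (Nat.ble (nat_lit 295) j)) (Nat.ble (nat_lit 292) j)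
noncomputable def dM_57 (j z1 z2 u : ℕ) : Bool :=
  Bool.rec (motive := fun _ => Bool) (dM_55 j z1 z2 u) (dM_56 j z1 z2 u) (Nat.ble (nat_lit 287) j)
noncomputable def dM_58 (j z1 z2 u : ℕ) : Bool :=
  Bool.rec (motive := fun _ => Bool) (dM_54 j z1 z2 u) (dM_57 j z1 z2 u) (Nat.ble (nat_lit 277) j)
noncomputable def dM_59 (j z1 z2 u : ℕ) : Bool :=
  Bool.rec (motive := fun _ => Bool) (dM_51 j z1 z2 u) (dM_58 j z1 z2 u) (Nat.ble (nat_lit 256) j)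
noncomputable def dM_60 (j z1 z2 u : ℕ) : Bool :=
  Bool.rec (motive := fun _ => Bool) (Bool.rec (motive := fun _ => Bool) (Bool.rec (motive := fun _ => Bool) (mRel MG [T_fi, T_bi, T_fi, T_bi, T_f, T_b, T_b, T_f, T_b, T_b, T_f] [T_b] M (Nat.sub (MG u) (Nat.mod (MG u) M)) (nat_lit 40) z1 u (Nat.mod (MG u) M)) (mRel MG [T_b, T_f] [T_fi, T_gi, T_b, T_b, T_f, T_b, T_f, T_g, T_f, T_gi] M (Nat.sub (MG u) (Nat.mod (MG u) M)) (nat_lit 40) z1 u (Nat.mod (MG u) M)) (Nat.ble (nat_lit 299) j)) (Bool.rec (motive := fun _ => Bool) (mRel MG [T_b, T_b, T_f, T_b, T_b, T_f, T_bi, T_fi, T_bi, T_fi, T_bi] [T_fi] M (Nat.sub (MG u) (Nat.mod (MG u) M)) (nat_lit 40) z1 u (Nat.mod (MG u) M)) (Bool.rec (motive := fun _ => Bool) (mRel MG [T_b, T_f, T_b, T_fi, T_bi, T_bi, T_fi, T_bi, T_bi] [T_fi, T_bi, T_f] M (Nat.sub (MG u) (Nat.mod (MG u) M)) (nat_lit 40)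 z1 u (Nat.mod (MG u) M)) (mRel MG [T_gi, T_b, T_b, T_f, T_b, T_f, T_g, T_f, T_gi, T_fi, T_bi] [T_f] M (Nat.sub (MG u) (Nat.mod (MG u) M)) (nat_lit 40) z1 u (Nat.mod (MG u) M)) (Nat.ble (nat_lit 302) j)) (Nat.ble (nat_lit 301) j)) (Nat.ble (nat_lit 300) j)) (Bool.rec (motive := fun _ => Bool) (Bool.rec (motive := fun _ => Bool) (mRel MG [T_g, T_fi, T_gi, T_fi, T_bi, T_fi, T_bi] [T_fi, T_bi, T_fi, T_gi, T_b] M (Nat.sub (MG u) (Nat.mod (MG u) M)) (nat_lit 40) z1 u (Nat.mod (MG u) M)) (mRel MG [T_b, T_fi, T_bi, T_bi, T_fi, T_bi, T_bi, T_fi] [T_fi, T_bi, T_fi, T_bi] M (Nat.sub (MG u) (Nat.mod (MG u) M)) (nat_lit 40) z1 u (Nat.mod (MG u) M)) (Nat.ble (nat_lit 304) j)) (Bool.rec (motive := fun _ => Bool) (mRel MG [T_bi] [T_n, T_bi, T_ni] M (Nat.sub (MG u) (Nat.mod (MG u) M)) (nat_lit 40) z1 u (Nat.mod (MG u) M)) (Bool.rec (motive := fun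 _ => Bool) (mRel MG [T_bi, T_fi, T_b, T_gi, T_fi] [T_g, T_fi, T_bi, T_f, T_b, T_fi, T_g] M (Nat.sub (MG u) (Nat.mod (MG u) M)) (nat_lit 40) z1 u (Nat.mod (MG u) M)) (mRel MG [T_g, T_f, T_gi, T_fi, T_bi] [T_fi, T_bi, T_fi, T_bi, T_bi, T_g, T_f] M (Nat.sub (MG u) (Nat.mod (MG u) M)) (nat_lit 40) z1 u (Nat.mod (MG u) M)) (Nat.ble (nat_lit 307) j)) (Nat.ble (nat_lit 306) j)) (Nat.ble (nat_lit 305) j)) (Nat.ble (nat_lit 303) j)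
noncomputable def dM_61 (j z1 z2 u : ℕ) : Bool :=
  Bool.rec (motive := fun _ => Bool) (Bool.rec (motive := fun _ => Bool) (Bool.rec (motive := fun _ => Bool) (mRel MG [T_f, T_g, T_bi, T_f] [T_gi, T_f, T_bi, T_fi, T_b, T_f, T_gi, T_bi] M (Nat.sub (MG u) (Nat.mod (MG u) M)) (nat_lit 40) z1 u (Nat.mod (MG u) M)) (mRel MG [T_b, T_f, T_b, T_f, T_b, T_fi] [T_f, T_b, T_b, T_f, T_b, T_b] M (Nat.sub (MG u) (Nat.mod (MG u) M)) (nat_lit 40) z1 u (Nat.mod (MG u) M)) (Nat.ble (nat_lit 309) j)) (Bool.rec (motive := fun _ => Bool) (mRel MG [T_z, T_gi, T_zi] [T_gi] M (Nat.sub (MG u) (Nat.mod (MG u) M)) (nat_lit 40) z1 u (Nat.mod (MG u) M)) (Bool.rec (motive := fun _ => Bool) (mRel MG [T_f, T_b, T_fi] [T_b, T_f, T_gi, T_bi, T_fi, T_b, T_gi, T_fi, T_gi] M (Nat.sub (MG u) (Nat.mod (MG u) M)) (nat_lit 40) z1 u (Nat.mod (MG u) M)) (mRel MG [T_bi,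 T_f, T_b, T_g, T_fi, T_bi, T_f, T_b, T_fi, T_g] [T_gi, T_fi] M (Nat.sub (MG u) (Nat.mod (MG u) M)) (nat_lit 40) z1 u (Nat.mod (MG u) M)) (Nat.ble (nat_lit 312) j)) (Nat.ble (nat_lit 311) j)) (Nat.ble (nat_lit 310) j)) (Bool.rec (motive := fun _ => Bool) (Bool.rec (motive := fun _ => Bool) (mRel MG [T_fi, T_bi, T_bi, T_fi, T_bi] [T_bi, T_fi, T_bi, T_fi, T_bi, T_f, T_b] M (Nat.sub (MG u) (Nat.mod (MG u) M)) (nat_lit 40) z1 u (Nat.mod (MG u) M)) (Bool.rec (motive := fun _ => Bool) (mRel MG [T_f, T_b, T_f, T_g, T_fi, T_gi, T_fi] [T_gi, T_b, T_b, T_f, T_b] M (Nat.sub (MG u) (Nat.mod (MG u) M)) (nat_lit 40) z1 u (Nat.mod (MG u) M)) (mRel MG [T_bi, T_fi, T_bi, T_fi, T_bi] [T_fi, T_bi, T_bi, T_fi, T_bi, T_bi, T_fi] M (Nat.sub (MG u) (Nat.mod (MG u) M)) (nat_lit 40) z1 u (Nat.mod (MG u) M)) (Nat.ble (nat_lit 315) j)) (Nat.ble (nat_lit 314)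 j)) (Bool.rec (motive := fun _ => Bool) (mRel MG [T_g, T_fi, T_bi, T_f, T_b] [T_bi, T_fi, T_b, T_gi, T_fi, T_gi, T_f] M (Nat.sub (MG u) (Nat.mod (MG u) M)) (nat_lit 40) z1 u (Nat.mod (MG u) M)) (Bool.rec (motive := fun _ => Bool) (mRel MG [T_bi, T_fi, T_bi] [T_f, T_b, T_fi, T_bi, T_bi, T_fi, T_bi, T_bi, T_fi] M (Nat.sub (MG u) (Nat.mod (MG u) M)) (nat_lit 40) z1 u (Nat.mod (MG u) M)) (mRel MG [T_bi, T_fi, T_b, T_f, T_gi, T_bi, T_fi, T_b, T_gi, T_fi] [T_fi, T_g] M (Nat.sub (MG u) (Nat.mod (MG u) M)) (nat_lit 40) z1 u (Nat.mod (MG u) M)) (Nat.ble (nat_lit 318) j)) (Nat.ble (nat_lit 317) j)) (Nat.ble (nat_lit 316) j)) (Nat.ble (nat_lit 313) j)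
noncomputable def dM_62 (j z1 z2 u : ℕ) : Bool :=
  Bool.rec (motive := fun _ => Bool) (dM_60 j z1 z2 u) (dM_61 j z1 z2 u) (Nat.ble (nat_lit 308) j)
noncomputable def dM_63 (j z1 z2 u : ℕ) : Bool :=
  Bool.rec (motive := fun _ => Bool) (Bool.rec (motive := fun _ => Bool) (Bool.rec (motive := fun _ => Bool) (mRel MG [T_fi, T_b, T_gi, T_fi] [T_b, T_g, T_fi, T_bi, T_f, T_b, T_fi, T_g] M (Nat.sub (MG u) (Nat.mod (MG u) M)) (nat_lit 40) z1 u (Nat.mod (MG u) M)) (mRel MG [T_g, T_f, T_gi, T_fi, T_bi, T_fi, T_gi, T_b, T_b] [T_fi, T_bi, T_fi] M (Nat.sub (MG u) (Nat.mod (MG u) M)) (nat_lit 40) z1 u (Nat.mod (MG u) M)) (Nat.ble (nat_lit 320) j)) (Bool.rec (motive := fun _ => Bool) (mRel MG [T_f, T_b, T_fi, T_g] [T_b, T_f, T_gi, T_bi, T_fi, T_b, T_gi, T_fi] M (Nat.sub (MG u) (Nat.mod (MG u) M)) (nat_lit 40) z1 u (Nat.mod (MG u) M)) (Bool.rec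 (motive := fun _ => Bool) (mRel MG [T_b, T_f, T_gi, T_bi, T_fi, T_b, T_gi, T_fi, T_gi, T_f] [T_f, T_b] M (Nat.sub (MG u) (Nat.mod (MG u) M)) (nat_lit 40) z1 u (Nat.mod (MG u) M)) (mRel MG [T_fi] [T_bi, T_fi, T_b, T_f, T_gi, T_bi, T_fi, T_b, T_gi, T_fi, T_gi] M (Nat.sub (MG u) (Nat.mod (MG u) M)) (nat_lit 40) z1 u (Nat.mod (MG u) M)) (Nat.ble (nat_lit 323) j)) (Nat.ble (nat_lit 322) j)) (Nat.ble (nat_lit 321) j)) (Bool.rec (motive := fun _ => Bool) (Bool.rec (motive := fun _ => Bool) (mRel MG [T_bi, T_fi, T_b, T_gi, T_fi, T_gi, T_f, T_bi] [T_g, T_fi, T_bi, T_f] M (Nat.sub (MG u) (Nat.mod (MG u) M)) (nat_lit 40) z1 u (Nat.mod (MG u) M)) (mRel MG [T_b, T_fi, T_bi, T_bi, T_fi, T_bi, T_bi, T_fi, T_b, T_f] [T_fi, T_bi] M (Nat.sub (MG u) (Nat.mod (MG u) M)) (nat_lit 40) z1 u (Nat.mod (MG u) M)) (Nat.ble (nat_lit 325) j)) (Bool.rec (motive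 := fun _ => Bool) (mRel MG [T_b, T_f, T_g, T_f, T_gi, T_fi, T_bi, T_fi, T_gi] [T_fi, T_bi, T_bi] M (Nat.sub (MG u) (Nat.mod (MG u) M)) (nat_lit 40) z1 u (Nat.mod (MG u) M)) (Bool.rec (motive := fun _ => Bool) (mRel MG [T_fi, T_g] [T_bi, T_fi, T_b, T_f, T_gi, T_bi, T_fi, T_b, T_gi, T_fi] M (Nat.sub (MG u) (Nat.mod (MG u) M)) (nat_lit 40) z1 u (Nat.mod (MG u) M)) (mRel MG [T_b, T_b, T_f] [T_g, T_f, T_b, T_f, T_g, T_fi, T_gi, T_fi, T_bi] M (Nat.sub (MG u) (Nat.mod (MG u) M)) (nat_lit 40) z1 u (Nat.mod (MG u) M)) (Nat.ble (nat_lit 328) j)) (Nat.ble (nat_lit 327) j)) (Nat.ble (nat_lit 326) j)) (Nat.ble (nat_lit 324) j)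
noncomputable def dM_64 (j z1 z2 u : ℕ) : Bool :=
  Bool.rec (motive := fun _ => Bool) (Bool.rec (motive := fun _ => Bool) (Bool.rec (motive := fun _ => Bool) (mRel MG [T_bi, T_bi, T_fi, T_bi, T_bi, T_fi, T_b, T_f] [T_f, T_bi, T_fi, T_bi] M (Nat.sub (MG u) (Nat.mod (MG u) M)) (nat_lit 40) z1 u (Nat.mod (MG u) M)) (mRel MG [T_b, T_fi, T_bi, T_bi, T_fi, T_bi, T_bi, T_fi, T_b, T_f, T_b, T_f] [] M (Nat.sub (MG u) (Nat.mod (MG u) M)) (nat_lit 40) z1 u (Nat.mod (MG u) M)) (Nat.ble (nat_lit 330) j)) (Bool.rec (motive := fun _ => Bool) (mRel MG [T_b, T_f, T_g] [T_fi, T_bi, T_bi, T_g, T_f, T_b, T_f, T_g, T_fi] M (Nat.sub (MG u) (Nat.mod (MG u) M)) (nat_lit 40) z1 u (Nat.mod (MG u) M)) (Bool.rec (motive := fun _ => Bool) (mRel MG [T_g, T_f, T_g, T_bi, T_f, T_b, T_g] [T_f, T_bi, T_fi, T_b, T_f] M (Nat.sub (MG u) (Nat.mod (MG u) M)) (nat_lit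 40) z1 u (Nat.mod (MG u) M)) (mRel MG [T_f, T_gi, T_bi, T_fi, T_b, T_gi, T_fi, T_gi] [T_bi, T_f, T_b, T_fi] M (Nat.sub (MG u) (Nat.mod (MG u) M)) (nat_lit 40) z1 u (Nat.mod (MG u) M)) (Nat.ble (nat_lit 333) j)) (Nat.ble (nat_lit 332) j)) (Nat.ble (nat_lit 331) j)) (Bool.rec (motive := fun _ => Bool) (Bool.rec (motive := fun _ => Bool) (mRel MG [T_bi, T_f, T_b, T_g, T_fi, T_bi, T_f, T_b, T_fi] [T_gi, T_fi, T_gi] M (Nat.sub (MG u) (Nat.mod (MG u) M)) (nat_lit 40) z1 u (Nat.mod (MG u) M)) (Bool.rec (motive := fun _ => Bool) (mRel MG [T_f, T_bi] [T_g, T_f, T_g, T_bi, T_f, T_b, T_g, T_fi, T_bi, T_f] M (Nat.sub (MG u) (Nat.mod (MG u) M)) (nat_lit 40) z1 u (Nat.mod (MG u) M)) (mRel MG [T_fi, T_bi, T_bi] [T_bi, T_fi, T_bi, T_fi, T_bi, T_f, T_b, T_b, T_f] M (Nat.sub (MG u) (Nat.mod (MG u) M)) (nat_lit 40) z1 u (Nat.mod (MG u) M)) (Nat.ble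 (nat_lit 336) j)) (Nat.ble (nat_lit 335) j)) (Bool.rec (motive := fun _ => Bool) (mRel MG [T_g, T_bi, T_f, T_b, T_g] [T_fi, T_gi, T_f, T_bi, T_fi, T_b, T_f] M (Nat.sub (MG u) (Nat.mod (MG u) M)) (nat_lit 40) z1 u (Nat.mod (MG u) M)) (Bool.rec (motive := fun _ => Bool) (mRel MG [T_gi, T_fi] [T_bi, T_f, T_b, T_g, T_fi, T_bi, T_f, T_b, T_fi, T_g] M (Nat.sub (MG u) (Nat.mod (MG u) M)) (nat_lit 40) z1 u (Nat.mod (MG u) M)) (mRel MG [T_ni, T_f] [T_fi, T_ni] M (Nat.sub (MG u) (Nat.mod (MG u) M)) (nat_lit 40) z1 u (Nat.mod (MG u) M)) (Nat.ble (nat_lit 339) j)) (Nat.ble (nat_lit 338) j)) (Nat.ble (nat_lit 337) j)) (Nat.ble (nat_lit 334) j)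
noncomputable def dM_65 (j z1 z2 u : ℕ) : Bool :=
  Bool.rec (motive := fun _ => Bool) (dM_63 j z1 z2 u) (dM_64 j z1 z2 u) (Nat.ble (nat_lit 329) j)
noncomputable def dM_66 (j z1 z2 u : ℕ) : Bool :=
  Bool.rec (motive := fun _ => Bool) (dM_62 j z1 z2 u) (dM_65 j z1 z2 u) (Nat.ble (nat_lit 319) j)
noncomputable def dM_67 (j z1 z2 u : ℕ) : Bool :=
  Bool.rec (motive := fun _ => Bool) (Bool.rec (motive := fun _ => Bool) (Bool.rec (motive := fun _ => Bool) (mRel MG [T_g, T_fi, T_gi, T_fi, T_bi, T_fi, T_bi, T_bi, T_g, T_f, T_b] [T_fi] M (Nat.sub (MG u) (Nat.mod (MG u) M)) (nat_lit 40) z1 u (Nat.mod (MG u) M)) (mRel MG [T_b, T_b, T_f, T_b, T_f, T_g, T_f, T_gi, T_fi] [T_g, T_f, T_b] M (Nat.sub (MG u) (Nat.mod (MG u) M)) (nat_lit 40) z1 u (Nat.mod (MG u) M)) (Nat.ble (nat_lit 341) j)) (Bool.rec (motive := fun _ => Bool) (mRel MG [T_fi,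 T_bi, T_fi, T_bi, T_bi, T_g, T_f] [T_g, T_f, T_gi, T_fi, T_bi] M (Nat.sub (MG u) (Nat.mod (MG u) M)) (nat_lit 40) z1 u (Nat.mod (MG u) M)) (Bool.rec (motive := fun _ => Bool) (mRel MG [T_g, T_f, T_gi, T_fi] [T_fi, T_bi, T_fi, T_bi, T_bi, T_g, T_f, T_b] M (Nat.sub (MG u) (Nat.mod (MG u) M)) (nat_lit 40) z1 u (Nat.mod (MG u) M)) (mRel MG [T_g, T_f, T_b] [T_b, T_b, T_f, T_b, T_f, T_g, T_f, T_gi, T_fi] M (Nat.sub (MG u) (Nat.mod (MG u) M)) (nat_lit 40) z1 u (Nat.mod (MG u) M)) (Nat.ble (nat_lit 344) j)) (Nat.ble (nat_lit 343) j)) (Nat.ble (nat_lit 342) j)) (Bool.rec (motive := fun _ => Bool) (Bool.rec (motive := fun _ => Bool) (mRel MG [T_bi, T_fi, T_bi, T_fi, T_bi, T_f, T_b, T_b, T_f] [T_fi, T_bi, T_bi] M (Nat.sub (MG u) (Nat.mod (MG u) M)) (nat_lit 40) z1 u (Nat.mod (MG u) M)) (mRel MG [T_bi, T_f, T_b] [T_f, T_b, T_f, T_b, T_fi,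 T_bi, T_bi, T_fi, T_bi] M (Nat.sub (MG u) (Nat.mod (MG u) M)) (nat_lit 40) z1 u (Nat.mod (MG u) M)) (Nat.ble (nat_lit 346) j)) (Bool.rec (motive := fun _ => Bool) (mRel MG [T_fi, T_bi, T_bi, T_fi, T_b, T_f] [T_b, T_b, T_f, T_bi, T_fi, T_bi] M (Nat.sub (MG u) (Nat.mod (MG u) M)) (nat_lit 40) z1 u (Nat.mod (MG u) M)) (Bool.rec (motive := fun _ => Bool) (mRel MG [T_b, T_b, T_f, T_b, T_f, T_g, T_f, T_gi, T_fi, T_bi, T_fi] [T_g] M (Nat.sub (MG u) (Nat.mod (MG u) M)) (nat_lit 40) z1 u (Nat.mod (MG u) M)) (mRel MG [T_g, T_bi, T_f, T_b, T_g, T_fi, T_bi, T_f, T_b, T_fi] [T_fi, T_gi] M (Nat.sub (MG u) (Nat.mod (MG u) M)) (nat_lit 40) z1 u (Nat.mod (MG u) M)) (Nat.ble (nat_lit 349) j)) (Nat.ble (nat_lit 348) j)) (Nat.ble (nat_lit 347) j)) (Nat.ble (nat_lit 345) j)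
noncomputable def dM_68 (j z1 z2 u : ℕ) : Bool :=
  Bool.rec (motive := fun _ => Bool) (Bool.rec (motive := fun _ => Bool) (Bool.rec (motive := fun _ => Bool) (mRel MG [T_b, T_b, T_f, T_bi, T_fi, T_bi, T_fi, T_bi, T_f] [T_fi, T_bi, T_bi] M (Nat.sub (MG u) (Nat.mod (MG u) M)) (nat_lit 40) z1 u (Nat.mod (MG u) M)) (mRel MG [T_bi, T_fi, T_bi, T_fi, T_bi, T_f, T_b, T_b, T_f, T_b, T_b] [T_fi] M (Nat.sub (MG u) (Nat.mod (MG u) M)) (nat_lit 40) z1 u (Nat.mod (MG u) M)) (Nat.ble (nat_lit 351) j)) (Bool.rec (motive := fun _ => Bool) (mRel MG [T_b, T_f, T_g, T_fi] [T_fi, T_gi, T_b, T_b, T_f, T_b, T_f, T_g] M (Nat.sub (MG u) (Nat.mod (MG u) M)) (nat_lit 40) z1 u (Nat.mod (MG u) M)) (Bool.rec (motive := fun _ => Bool) (mRel MG [T_b, T_b, T_f, T_b, T_b, T_f, T_bi, T_fi] [T_fi, T_b, T_f, T_b] M (Nat.sub (MG u) (Nat.mod (MG u) M)) (nat_lit 40)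 z1 u (Nat.mod (MG u) M)) (mRel MG [T_f, T_b, T_b] [T_bi, T_bi, T_fi, T_b, T_f, T_b, T_f, T_b, T_fi] M (Nat.sub (MG u) (Nat.mod (MG u) M)) (nat_lit 40) z1 u (Nat.mod (MG u) M)) (Nat.ble (nat_lit 354) j)) (Nat.ble (nat_lit 353) j)) (Nat.ble (nat_lit 352) j)) (Bool.rec (motive := fun _ => Bool) (Bool.rec (motive := fun _ => Bool) (mRel MG [T_f, T_b, T_f, T_b, T_fi] [T_bi, T_f, T_b, T_b, T_f, T_b, T_b] M (Nat.sub (MG u) (Nat.mod (MG u) M)) (nat_lit 40) z1 u (Nat.mod (MG u) M)) (Bool.rec (motive := fun _ => Bool) (mRel MG [T_g] [T_fi, T_bi, T_fi, T_gi, T_b, T_b, T_f, T_b, T_f, T_g, T_f] M (Nat.sub (MG u) (Nat.mod (MG u) M)) (nat_lit 40) z1 u (Nat.mod (MG u) M)) (mRel MG [T_fi, T_bi, T_fi, T_gi, T_b, T_b, T_f, T_b, T_f] [T_g, T_fi, T_gi] M (Nat.sub (MG u) (Nat.mod (MG u) M)) (nat_lit 40) z1 u (Nat.mod (MG u) M)) (Nat.ble (nat_lit 357)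 j)) (Nat.ble (nat_lit 356) j)) (Bool.rec (motive := fun _ => Bool) (mRel MG [T_f, T_g, T_bi, T_f, T_b, T_g, T_fi, T_bi, T_f, T_b, T_fi, T_g] [] M (Nat.sub (MG u) (Nat.mod (MG u) M)) (nat_lit 40) z1 u (Nat.mod (MG u) M)) (Bool.rec (motive := fun _ => Bool) (mRel MG [T_gi, T_fi, T_bi, T_fi, T_gi, T_b, T_b, T_f, T_b, T_f] [T_fi, T_gi] M (Nat.sub (MG u) (Nat.mod (MG u) M)) (nat_lit 40) z1 u (Nat.mod (MG u) M)) (mRel MG [T_bi, T_fi, T_gi, T_b, T_b, T_f, T_b, T_f, T_g, T_f] [T_f, T_g] M (Nat.sub (MG u) (Nat.mod (MG u) M)) (nat_lit 40) z1 u (Nat.mod (MG u) M)) (Nat.ble (nat_lit 360) j)) (Nat.ble (nat_lit 359) j)) (Nat.ble (nat_lit 358) j)) (Nat.ble (nat_lit 355) j)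
noncomputable def dM_69 (j z1 z2 u : ℕ) : Bool :=
  Bool.rec (motive := fun _ => Bool) (dM_67 j z1 z2 u) (dM_68 j z1 z2 u) (Nat.ble (nat_lit 350) j)
noncomputable def dM_70 (j z1 z2 u : ℕ) : Bool :=
  Bool.rec (motive := fun _ => Bool) (Bool.rec (motive := fun _ => Bool) (Bool.rec (motive := fun _ => Bool) (mRel MG [T_gi, T_f, T_bi, T_fi, T_b, T_f, T_gi, T_bi, T_fi] [T_f, T_g, T_bi] M (Nat.sub (MG u) (Nat.mod (MG u) M)) (nat_lit 40) z1 u (Nat.mod (MG u) M)) (mRel MG [T_gi, T_fi, T_bi, T_fi, T_gi] [T_fi, T_gi, T_fi, T_bi, T_fi, T_bi, T_bi] M (Nat.sub (MG u) (Nat.mod (MG u) M)) (nat_lit 40) z1 u (Nat.mod (MG u) M)) (Nat.ble (nat_lit 362) j)) (Bool.rec (motive := fun _ => Bool) (mRel MG [T_f, T_b] [T_b, T_gi, T_fi, T_gi, T_f, T_bi, T_fi, T_b, T_f, T_gi] M (Nat.sub (MG u) (Nat.mod (MG u) M)) (nat_lit 40) z1 u (Nat.mod (MG u) M)) (Bool.rec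 (motive := fun _ => Bool) (mRel MG [T_ni, T_f, T_n] [T_fi] M (Nat.sub (MG u) (Nat.mod (MG u) M)) (nat_lit 40) z1 u (Nat.mod (MG u) M)) (mRel MG [T_ni, T_b] [T_b, T_ni] M (Nat.sub (MG u) (Nat.mod (MG u) M)) (nat_lit 40) z1 u (Nat.mod (MG u) M)) (Nat.ble (nat_lit 365) j)) (Nat.ble (nat_lit 364) j)) (Nat.ble (nat_lit 363) j)) (Bool.rec (motive := fun _ => Bool) (Bool.rec (motive := fun _ => Bool) (mRel MG [T_gi, T_ni, T_gi, T_ni] [T_n, T_g] M (Nat.sub (MG u) (Nat.mod (MG u) M)) (nat_lit 40) z1 u (Nat.mod (MG u) M)) (mRel MG [T_ni, T_fi] [T_f, T_ni] M (Nat.sub (MG u) (Nat.mod (MG u) M)) (nat_lit 40) z1 u (Nat.mod (MG u) M)) (Nat.ble (nat_lit 367) j)) (Bool.rec (motive := fun _ => Bool) (mRel MG [T_n, T_fi] [T_f, T_n] M (Nat.sub (MG u) (Nat.mod (MG u) M)) (nat_lit 40) z1 u (Nat.mod (MG u) M)) (Bool.rec (motive := fun _ => Bool) (mRel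 MG [T_bi, T_bi] [T_f, T_bi, T_fi, T_bi, T_fi, T_bi, T_f, T_b, T_b, T_f] M (Nat.sub (MG u) (Nat.mod (MG u) M)) (nat_lit 40) z1 u (Nat.mod (MG u) M)) (mRel MG [T_gi, T_fi, T_bi, T_fi, T_bi, T_bi, T_g, T_f] [T_f, T_gi, T_fi, T_bi] M (Nat.sub (MG u) (Nat.mod (MG u) M)) (nat_lit 40) z1 u (Nat.mod (MG u) M)) (Nat.ble (nat_lit 370) j)) (Nat.ble (nat_lit 369) j)) (Nat.ble (nat_lit 368) j)) (Nat.ble (nat_lit 366) j)
noncomputable def dM_71 (j z1 z2 u : ℕ) : Bool :=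
  Bool.rec (motive := fun _ => Bool) (Bool.rec (motive := fun _ => Bool) (Bool.rec (motive := fun _ => Bool) (mRel MG [T_fi, T_b, T_gi] [T_b, T_g, T_fi, T_bi, T_f, T_b, T_fi, T_g, T_f] M (Nat.sub (MG u) (Nat.mod (MG u) M)) (nat_lit 40) z1 u (Nat.mod (MG u) M)) (mRel MG [T_b, T_f, T_b, T_f] [T_f, T_b, T_b, T_f, T_b, T_b, T_f, T_bi] M (Nat.sub (MG u) (Nat.mod (MG u) M)) (nat_lit 40) z1 u (Nat.mod (MG u) M)) (Nat.ble (nat_lit 372) j)) (Bool.rec (motive := fun _ => Bool) (mRel MG [T_fi, T_b, T_f, T_gi, T_bi, T_fi] [T_b, T_fi, T_g, T_f, T_g, T_bi] M (Nat.sub (MG u) (Nat.mod (MG u) M)) (nat_lit 40) z1 u (Nat.mod (MG u) M)) (Bool.rec (motive := fun _ => Bool) (mRel MG [T_g, T_fi, T_gi, T_fi] [T_fi, T_bi, T_fi, T_gi, T_b, T_b, T_f, T_b] M (Nat.sub (MG u) (Nat.mod (MG u) M)) (nat_lit 40) z1 u (Nat.mod (MG u) M)) (mRel MG [T_n, T_bi] [T_bi,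 T_n] M (Nat.sub (MG u) (Nat.mod (MG u) M)) (nat_lit 40) z1 u (Nat.mod (MG u) M)) (Nat.ble (nat_lit 375) j)) (Nat.ble (nat_lit 374) j)) (Nat.ble (nat_lit 373) j)) (Bool.rec (motive := fun _ => Bool) (Bool.rec (motive := fun _ => Bool) (mRel MG [T_bi, T_f, T_b, T_b, T_f] [T_f, T_b, T_f, T_b, T_fi, T_bi, T_bi] M (Nat.sub (MG u) (Nat.mod (MG u) M)) (nat_lit 40) z1 u (Nat.mod (MG u) M)) (Bool.rec (motive := fun _ => Bool) (mRel MG [T_f, T_gi, T_bi, T_fi, T_b, T_gi, T_fi] [T_bi, T_f, T_b, T_fi, T_g] M (Nat.sub (MG u) (Nat.mod (MG u) M)) (nat_lit 40) z1 u (Nat.mod (MG u) M)) (mRel MG [T_g, T_fi, T_bi, T_f, T_b, T_fi] [T_bi, T_fi, T_b, T_gi, T_fi, T_gi] M (Nat.sub (MG u) (Nat.mod (MG u) M)) (nat_lit 40) z1 u (Nat.mod (MG u) M)) (Nat.ble (nat_lit 378) j)) (Nat.ble (nat_lit 377) j)) (Bool.rec (motive := fun _ => Bool) (mRel MG [T_bi, T_bi,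 T_fi, T_bi, T_bi, T_fi, T_b, T_f, T_b, T_f] [T_f, T_bi] M (Nat.sub (MG u) (Nat.mod (MG u) M)) (nat_lit 40) z1 u (Nat.mod (MG u) M)) (Bool.rec (motive := fun _ => Bool) (mRel MG [T_g, T_fi] [T_fi, T_bi, T_fi, T_gi, T_b, T_b, T_f, T_b, T_f, T_g] M (Nat.sub (MG u) (Nat.mod (MG u) M)) (nat_lit 40) z1 u (Nat.mod (MG u) M)) (mRel MG [T_f, T_gi, T_fi, T_bi] [T_gi, T_fi, T_bi, T_fi, T_bi, T_bi, T_g, T_f] M (Nat.sub (MG u) (Nat.mod (MG u) M)) (nat_lit 40) z1 u (Nat.mod (MG u) M)) (Nat.ble (nat_lit 381) j)) (Nat.ble (nat_lit 380) j)) (Nat.ble (nat_lit 379) j)) (Nat.ble (nat_lit 376) j)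
noncomputable def dM_72 (j z1 z2 u : ℕ) : Bool :=
  Bool.rec (motive := fun _ => Bool) (dM_70 j z1 z2 u) (dM_71 j z1 z2 u) (Nat.ble (nat_lit 371) j)
noncomputable def dM_73 (j z1 z2 u : ℕ) : Bool :=
  Bool.rec (motive := fun _ => Bool) (dM_69 j z1 z2 u) (dM_72 j z1 z2 u) (Nat.ble (nat_lit 361) j)
noncomputable def dM_74 (j z1 z2 u : ℕ) : Bool :=
  Bool.rec (motive := fun _ => Bool) (dM_66 j z1 z2 u) (dM_73 j z1 z2 u) (Nat.ble (nat_lit 340) j)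
noncomputable def dM_75 (j z1 z2 u : ℕ) : Bool :=
  Bool.rec (motive := fun _ => Bool) (dM_59 j z1 z2 u) (dM_74 j z1 z2 u) (Nat.ble (nat_lit 298) j)
noncomputable def dM_76 (j z1 z2 u : ℕ) : Bool :=
  Bool.rec (motive := fun _ => Bool) (dM_44 j z1 z2 u) (dM_75 j z1 z2 u) (Nat.ble (nat_lit 215) j)
noncomputable def dM_77 (j z1 z2 u : ℕ) : Bool :=
  Bool.rec (motive := fun _ => Bool) (dM_23 j z1 z2 u) (dM_76 j z1 z2 u) (Nat.ble (nat_lit 107) j)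
noncomputable def dM_78 (j z1 z2 u : ℕ) : Bool :=
  Bool.rec (motive := fun _ => Bool) (dM_6 j z1 z2 u) (dM_77 j z1 z2 u) (Nat.ble (nat_lit 36) j)
noncomputable def dM_79 (j z1 z2 u : ℕ) : Bool :=
  Bool.rec (motive := fun _ => Bool) (dM_1 j z1 z2 u) (dM_78 j z1 z2 u) (Nat.ble (nat_lit 9) j)
noncomputable def dM_80 (j z1 z2 u : ℕ) : Bool :=
  Bool.rec (motive := fun _ => Bool) (dM_0 j z1 z2 u) (dM_79 j z1 z2 u) (Nat.ble (nat_lit 5) j)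
noncomputable def chkM (u : ℕ) : Bool :=
  Bool.rec (motive := fun _ => Bool) (band (Nat.ble (Nat.succ (Nat.mod (MG u) M)) u) (dM_80 (Nat.land (MR u) (nat_lit 511)) (Nat.land (Nat.shiftRight (MR u) (nat_lit 9)) (nat_lit 32767)) (Nat.shiftRight (MR u) (nat_lit 24)) u)) true (Nat.ble A (MG u))
noncomputable def chkN (u : ℕ) : Bool :=
  band (chk_b (Nat.land (Nat.shiftRight (RS u) (nat_lit 0)) (nat_lit 63)) u) (band (chk_bi (Nat.land (Nat.shiftRight (RS u) (nat_lit 6)) (nat_lit 63)) u) (band (chk_g (Nat.land (Nat.shiftRight (RS u) (nat_lit 12)) (nat_lit 63)) u) (band (chk_gi (Nat.land (Nat.shiftRight (RS u) (nat_lit 18)) (nat_lit 63)) u) (band (chk_f (Nat.land (Nat.shiftRight (RS u) (nat_lit 24)) (nat_lit 63)) u) (band (chk_fi (Nat.land (Nat.shiftRight (RS u) (nat_lit 30)) (nat_lit 63)) u) (band (chk_n (Nat.land (Nat.shiftRight (RS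 u) (nat_lit 36)) (nat_lit 63)) u) (band (chk_ni (Nat.land (Nat.shiftRight (RS u) (nat_lit 42)) (nat_lit 63)) u) (band (chk_z (Nat.land (Nat.shiftRight (RS u) (nat_lit 48)) (nat_lit 63)) u) (band (chk_zi (Nat.land (Nat.shiftRight (RS u) (nat_lit 54)) (nat_lit 63)) u) (chkM u))))))))))
noncomputable def chkP (u : ℕ) : Bool := Bool.rec (motive := fun _ => Bool) (chkN u) true (Nat.ble M u)
noncomputable def liveP (u : ℕ) : Bool := Bool.rec (motive := fun _ => Bool) (Nat.ble A (MG u)) false (Nat.ble M u)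
end H94.TCRuA
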